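/-
Involutions in the centre of a Sylow `2`-subgroup which are products of squares of elements of their centraliser.
-/
import Mathlib

set_option autoImplicit false

namespace CL.Sq

open Subgroup

variable {A M : Type*} [Group A] [Group M]

/-- some conjugate of `k` centralises any given `2`-subgroup -/
def TC (k : A) : Prop := ∀ D : Subgroup A, IsPGroup 2 D → ∃ a : A, ∀ d ∈ D, a * k * a⁻¹ * d = d * (a * k * a⁻¹)

/-- `k` is a product of squares of elements of its centraliser -/
def InSq (k : A) : Prop := ∀ N : Subgroup A, (∀ y, y * k = k * y → y * y ∈ N) → k ∈ N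

variable (A) in
/-- all `2`-central involutions are products of squares of elements of their centralisers -/
def Star : Prop := ∀ k : A, k * k = 1 → TC k → InSq k

theorem inSq_of_sq {k y : A} (h : y * y = k) : InSq k := fun _ hN => h ▸ hN y (by rw [← h, mul_assoc])

theorem InSq.map {k : M} (h : InSq k) (f : M →* A) : InSq (f k) := fun N hN =>
  h (N.comap f) fun y hy => by
    rw [mem_comap, map_mul]; exact hN _ (by rw [← map_mul, hy, map_mul])

theorem InSq.of_conj {k : A} (a : A) (h : InSq (a * k * a⁻¹)) : InSq k := by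
  simpa [mul_assoc] using h.map (MulAut.conj a⁻¹).toMonoidHom

theorem star_of_cover (π : M →* A) (hπ : Function.Surjective π) {D : Subgroup M} (hD : IsPGroup 2 D)
    (h : ∀ s, π (s * s) = 1 → (∀ d ∈ D, π (s * d) = π (d * s)) → InSq (π s)) : Star A := fun k hk hT => by
  obtain ⟨a, ha⟩ := hT _ (hD.map π)
  obtain ⟨s, hs⟩ := hπ (a * k * a⁻¹)
  refine .of_conj a (hs ▸ h s ?_ fun d hd => ?_)
  · rw [map_mul, hs, show a * k * a⁻¹ * (a * k * a⁻¹) = a * (k * k) * a⁻¹ by group, hk, mul_one, mul_inv_cancel]
  · rw [map_mul, map_mul, hs]; exact ha _ ⟨d, hd, rfl⟩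

theorem Star.of_equiv (h : Star M) (e : A ≃* M) : Star A := fun k hk hT => by
  have := (h (e k) (by rw [← map_mul, hk, map_one]) fun D hD => by
    obtain ⟨a, ha⟩ := hT _ (hD.map e.symm.toMonoidHom)
    exact ⟨e a, fun d hd => by simpa using congrArg e (ha _ ⟨d, hd, rfl⟩)⟩).map e.symm.toMonoidHom
  simpa using this

/-- a group which is an extension of a central group of exponent two by a group of exponent two -/
theorem isPGroup_closure {S : Set A} {Z : Subgroup A} (h1 : ∀ z ∈ Z, z * z = 1) (h2 : ∀ z ∈ Z, ∀ s ∈ S, s * z = z * s)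
    (h3 : ∀ s ∈ S, s * s ∈ Z) (h4 : ∀ s ∈ S, ∀ t ∈ S, s * t * s⁻¹ * t⁻¹ ∈ Z) : IsPGroup 2 (closure S) := by
  have k2 : ∀ z ∈ Z, ∀ s ∈ closure S, s * z = z * s := fun z hz s hs => mem_centralizer_singleton_iff.1
    ((closure_le (centralizer {z})).2 (fun s hs => mem_centralizer_singleton_iff.2 (h2 z hz s hs)) hs)
  have k3 : ∀ s ∈ closure S, ∀ z ∈ Z, s * z * s⁻¹ ∈ Z := fun s hs z hz => by rwa [k2 z hz s hs, mul_inv_cancel_right]
  have k4 : ∀ s ∈ closure S, ∀ t ∈ closure S, s * t * s⁻¹ * t⁻¹ ∈ Z := fun s hs t ht => by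
    induction hs, ht using closure_induction₂ with
    | mem x y hx hy => exact h4 x hx y hy
    | one_left => simp
    | one_right => simp
    | mul_left x y z hx _ _ a b => convert mul_mem (k3 x hx _ b) a using 1; group
    | mul_right y z x hy _ _ a b => convert mul_mem a (k3 y hy _ b) using 1; group
    | inv_left x y hx _ a => convert k3 _ (inv_mem hx) _ (inv_mem a) using 1; group
    | inv_right x y _ hy a => convert k3 _ (inv_mem hy) _ (inv_mem a) using 1; group
  have k5 : ∀ s ∈ closure S, s * s ∈ Z := fun s hs => by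
    induction hs using closure_induction with
    | mem x hx => exact h3 x hx
    | one => simp
    | mul x y hx hy a b => convert mul_mem (mul_mem a (k4 _ (inv_mem hx) _ hy)) b using 1; group
    | inv x _ a => simpa using inv_mem a
  exact fun x => ⟨2, Subtype.ext (by simpa [pow_succ, mul_assoc] using h1 _ (k5 x x.2))⟩

/-- the exponent of a subgroup generated by commuting elements -/
theorem pow_of_mem_closure {S : Set A} {n : ℕ} (h1 : ∀ s ∈ S, s ^ n = 1) (h2 : ∀ s ∈ S, ∀ t ∈ S, s * t = t * s) :
    ∀ z ∈ closure S, z ^ n = 1 := fun z hz => by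
  have k : ∀ s ∈ closure S, ∀ t ∈ closure S, Commute s t := fun s hs t ht => by
    induction hs, ht using closure_induction₂ with
    | mem x y hx hy => exact h2 x hx y hy
    | one_left => simp
    | one_right => simp
    | mul_left x y z _ _ _ a b => exact a.mul_left b
    | mul_right y z x _ _ _ a b => exact a.mul_right b
    | inv_left x y _ _ a => exact a.inv_left
    | inv_right x y _ _ a => exact a.inv_right
  induction hz using closure_induction with
  | mem x hx => exact h1 x hx
  | one => simp
  | mul x y hx hy a b => rw [(k x hx y hy).mul_pow, a, b, mul_one]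
  | inv x _ a => rw [inv_pow, a, inv_one]

theorem sq_of_mem_closure {S : Set A} (h1 : ∀ s ∈ S, s * s = 1) (h2 : ∀ s ∈ S, ∀ t ∈ S, s * t = t * s) :
    ∀ z ∈ closure S, z * z = 1 := fun z hz => sq z ▸ pow_of_mem_closure (fun s hs => (sq s).trans (h1 s hs)) h2 z hz

end CL.Sq
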