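/-
Involutions in the groups of fixed points of generalised Frobenius maps are squares.
-/
import Cfsg.Agent.INV.Sq.Defs
import Cfsg.Agent.CHEV.AbExc
import Cfsg.Agent.CHEV.TwOrb
import Cfsg.Agent.CHEV.TwLiftD

set_option autoImplicit false

namespace CL.Sq

open Subgroup CL.Chev CL.Chev.StData

variable {ι κ : Type*} [Fintype κ] [DecidableEq κ] (R : RootSys ι κ) (B : κ → κ → ℤ)

/-- a bit as an integer -/
def vb (b : Bool) : ℤ := if b then 1 else 0

/-- the action of a simple reflection on the coroot lattice modulo two -/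
def stp (i : κ) (a : κ → Bool) (k : κ) : Bool :=
  if k = i then decide (¬ 2 ∣ vb (a i) - ∑ j, vb (a j) * B j i) else a k

/-- the representatives of the classes of involutions -/
def Rp (π : κ → κ) (a : κ → Bool) : Prop :=
  (∀ i, 2 ∣ ∑ j, vb (a j) * B j i) ∨ (∃ i, π i = i ∧ ∀ k, a k = decide (k = i)) ∨
    ∃ i j, i ≠ j ∧ B i j = 0 ∧ (π i = i ∧ π j = j ∨ π i = j ∧ π j = i) ∧ ∀ k, a k = decide (k = i ∨ k = j)

instance (π : κ → κ) (a : κ → Bool) : Decidable (Rp B π a) := by unfold Rp; infer_instance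

/-- all elements of the coroot lattice modulo two are conjugate to representatives -/
def Chk (π : κ → κ) (rk : (κ → Bool) → ℕ) : Prop := ∀ a, Rp B π a ∨ ∃ i, rk (stp B i a) < rk a

instance (π : κ → κ) (rk : (κ → Bool) → ℕ) : Decidable (Chk B π rk) := by unfold Chk; infer_instance

/-- the roots in `L` are long, orthogonal, and span a sublattice containing twice the weight lattice -/
def Orth (L : List ι) : Prop :=
  L.Nodup ∧ (∀ r ∈ L, (∀ k, R.len k ≤ R.len r) ∧ (∀ s ∈ L, r ≠ s → R.pair r s = 0) ∧ ∃ i, ¬ 2 ∣ R.pair r (R.simple i)) ∧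
    (∀ j k, (L.map fun r => R.co r j * R.wt r k).sum = if k = j then 2 else 0) ∧ (∀ r, ∃ i, ¬ 4 ∣ R.wt r i) ∧
    ∀ j r, (∀ i, 4 ∣ R.wt (R.simple j) i - R.wt r i) → r = R.simple j

instance [Fintype ι] [DecidableEq ι] (L : List ι) : Decidable (Orth R L) := by unfold Orth; infer_instance

variable {R} {K Γ : Type*} [Field K] [Group Γ] {S : StData R K Γ} {φ : K →+* K} {q : ℕ} {σ τ : Monoid.End Γ} [Finite ι]
  [IsAlgClosed K] (A : S.Alg φ q σ) (h2 : (2 : K) ≠ 0)

theorem odd_of_not_dvd {x : ℤ} (h : ¬ 2 ∣ x) : Odd x := Int.not_even_iff_odd.1 (mt even_iff_two_dvd.1 h)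

section
variable {C : Type*} [CommGroup C]
omit [Finite ι]

theorem uchr_two (t : κ → C) (j : κ) : uchr t (fun k => if k = j then 2 else 0) = t j * t j := by
  simp [uchr, sq]

theorem uchr_list (t : κ → C) (j : κ) (L : List ι) :
    uchr t (fun k => (L.map fun r => R.co r j * R.wt r k).sum) = (L.map fun r => uchr t (R.wt r) ^ R.co r j).prod := by
  induction L with
  | nil => exact uchr_zero t
  | cons r L ih => rw [List.map_cons, List.prod_cons, ← ih, ← uchr_smul, ← uchr_add]; rfl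

theorem uchr_orth (c : ι → C) {r : ι} {L : List ι} (h : ∀ s ∈ L, R.pair s r = 0) :
    uchr (fun j => (L.map fun s => c s ^ R.co s j).prod) (R.wt r) = 1 := by
  induction L with
  | nil => simp [uchr]
  | cons s L ih =>
    have := uchr_mul (fun j => c s ^ R.co s j) (fun j => (L.map fun s => c s ^ R.co s j).prod) (R.wt r)
    rwa [ih fun s hs => h s (by simp [hs]), uchr_zpow_const, show R.co s ⬝ᵥ R.wt r = 0 from h s (by simp), zpow_zero,
      one_mul] at this

end

omit [Finite ι] [IsAlgClosed K] in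
theorem act_stp (i : κ) (a : κ → Bool) :
    R.act (R.sp i) (fun k => (-1 : Kˣ) ^ vb (a k)) = fun k => (-1) ^ vb (stp R.A i a k) := by
  rw [RootSys.act_zpow_const, RootSys.coM_sp]
  funext k
  have : Matrix.vecMul (fun k => vb (a k)) (Matrix.of fun j k => (1 : Matrix κ κ ℤ) j k - if k = i then R.A j i else 0) k =
      vb (a k) - if k = i then ∑ j, vb (a j) * R.A j i else 0 := by
    by_cases h : k = i <;> simp [Matrix.vecMul, dotProduct, mul_sub, Matrix.one_apply, h]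
  rw [this, stp]
  split_ifs with h
  · rw [h]
    generalize vb (a i) - ∑ j, vb (a j) * R.A j i = x
    by_cases e : 2 ∣ x
    · simp [(even_iff_two_dvd.2 e).neg_one_zpow, e, vb]
    · simp [(odd_of_not_dvd e).neg_one_zpow, e, vb]
  · rw [sub_zero]

include A

omit [IsAlgClosed K] in
theorem mem_center_torHom {t : κ → Kˣ} : A.r3.torHom t ∈ center Γ ↔ matHom Kˣ (Matrix.of R.A) t = 1 := by
  rw [A.r3.center_eq A.good A.top, mem_map_iff_mem A.sc, MonoidHom.mem_ker]

omit [IsAlgClosed K] in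
theorem uchr_of_center {t : κ → Kˣ} (h : A.r3.torHom t ∈ center Γ) (r : ι) : uchr t (R.wt r) = 1 :=
  (A.r3.x_comm_torHom_iff A.good t r one_ne_zero).1 (mul_inv_eq_iff_eq_mul.2 (mem_center_iff.1 h _).symm)

omit [Finite ι] [IsAlgClosed K] in
theorem n_sq (i : κ) : S.n (R.simple i) 1 * S.n (R.simple i) 1 = A.r3.torHom (Pi.mulSingle i (-1)) := by
  rw [S.n_one_mul_self, ← Units.val_one, ← Units.val_neg, ← A.r3.torHom_mulSingle, ← map_inv, ← Pi.mulSingle_inv, inv_neg_one]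

omit [IsAlgClosed K] in
theorem exists_rep {π : κ → κ} (h1 : ∀ i, τ (S.n (R.simple i) 1) = S.n (R.simple (π i)) 1) {rk : (κ → Bool) → ℕ}
    (hc : Chk R.A π rk) (a : κ → Bool) : ∃ g, IsConj (A.r3.torHom fun k => (-1) ^ vb (a k)) g ∧
      (g ∈ center Γ ∨ ∃ y, τ y = y ∧ y * y = g) := by
  induction hn : rk a using Nat.strong_induction_on generalizing a with | _ n ih => ?_
  rcases hc a with (h | ⟨i, h3, h⟩ | ⟨i, j, h3, h4, h5, h⟩) | ⟨i, h⟩
  · refine ⟨_, .refl _, .inl ((mem_center_torHom A).2 ?_)⟩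
    rw [matHom_zpow_const]
    exact funext fun i => (even_iff_two_dvd.2 (h i)).neg_one_zpow
  · refine ⟨_, .refl _, .inr ⟨_, (h1 i).trans (by rw [h3]), (n_sq A i).trans (congrArg _ (funext fun k => ?_))⟩⟩
    by_cases e : k = i <;> simp [h, e, vb]
  · have hn : ∀ i, S.n (R.simple i) 1 ∈ S.XS (R.sub {i}) := fun i =>
      S.n_mem_XS (R.simple_mem_sub_self i) (R.neg_mem_sub_self i) 1
    have c := S.commute_orth h3 h4 (hn i) (hn j)
    refine ⟨_, .refl _, .inr ⟨S.n (R.simple i) 1 * S.n (R.simple j) 1, ?_, ?_⟩⟩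
    · rcases h5 with e | e <;> rw [map_mul, h1, h1, e.1, e.2]
      exact c.symm
    · rw [c.symm.mul_mul_mul_comm, n_sq A, n_sq A, ← map_mul]
      refine congrArg _ (funext fun k => ?_)
      by_cases e : k = i
      · simp [h, e, vb, h3]
      · by_cases e' : k = j <;> simp [h, e, e', vb, h3.symm]
  · obtain ⟨g, h3, h4⟩ := ih _ (hn ▸ h) _ rfl
    exact ⟨g, (isConj_iff.2 ⟨_, (A.r3.conj_torHom (S.acts_n_simple i one_ne_zero) _).trans (congrArg _ (act_stp i a))⟩).trans h3,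
      h4⟩

variable {G1 G : Type*} [Group G1] [Group G] {ψ : G1 →* Γ} (hψ : Function.Injective ψ) {pr : G1 →* G}
include h2 hψ

theorem inSq_of_invol (h : S.GF σ τ) {π : κ → κ} (h1 : ∀ i, τ (S.n (R.simple i) 1) = S.n (R.simple (π i)) 1)
    {rk : (κ → Bool) → ℕ} (hc : Chk R.A π rk) (hfix : ∀ y, y ∈ ψ.range ↔ τ y = y) (hz : ∀ z, ψ z ∈ center Γ → pr z = 1) {s : G1}
    (hs : s * s = 1) : InSq (pr s) := by
  have ho : (orderOf (ψ s) : K) ≠ 0 := by
    rcases (Nat.dvd_prime Nat.prime_two).1 (orderOf_dvd_of_pow_eq_one (show ψ s ^ 2 = 1 by rw [sq, ← map_mul, hs, map_one]))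
      with e | e <;> simp [e, h2]
  obtain ⟨y, hy⟩ := A.exists_conj_H ho
  obtain ⟨t, ht⟩ := A.r3.range_torHom ▸ hy
  have h4 : t * t = 1 := A.sc (by
    rw [map_mul, ht, show ∀ a : Γ, y * a * y⁻¹ * (y * a * y⁻¹) = y * (a * a) * y⁻¹ from fun a => by group, ← map_mul, hs]; simp)
  have h5 : ∀ i, ∃ a, t i = (-1) ^ vb a := fun i => by
    rcases mul_self_eq_one_iff.1 (congrArg Units.val (congrFun h4 i)) with h | h
    exacts [⟨false, Units.ext (by simpa [vb] using h)⟩, ⟨true, Units.ext (by simpa [vb] using h)⟩]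
  choose a ha using h5
  obtain ⟨g, h6, h7⟩ := exists_rep A h1 hc a
  rw [← funext ha, ht] at h6
  replace h6 := (isConj_iff.2 ⟨y, rfl⟩).trans h6
  rcases h7 with h7 | ⟨x, h7, rfl⟩
  · obtain ⟨c, rfl⟩ := isConj_iff.1 h6.symm |>.imp fun c (e : c * g * c⁻¹ = ψ s) =>
      show g = ψ s by rw [← e, mem_center_iff.1 h7, mul_inv_cancel_right]
    exact inSq_of_sq (y := 1) (by rw [hz s h7, one_mul])
  · obtain ⟨c, h8, h9⟩ := A.exists_conj_fixed h ((hfix _).1 ⟨s, rfl⟩) (by rw [map_mul, h7]) ho h6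
    obtain ⟨c, rfl⟩ := (hfix c).2 h8
    obtain ⟨x, rfl⟩ := (hfix x).2 h7
    exact (InSq.of_conj c (inSq_of_sq (hψ (by simpa using h9.symm)))).map pr

theorem star_of_odd [Finite G1] (h : S.GF σ τ) {π : κ → κ} (h1 : ∀ i, τ (S.n (R.simple i) 1) = S.n (R.simple (π i)) 1)
    {rk : (κ → Bool) → ℕ} (hc : Chk R.A π rk) (hfix : ∀ y, y ∈ ψ.range ↔ τ y = y) (hz : ∀ z, ψ z ∈ center Γ → pr z = 1)
    (hpr : Function.Surjective pr) (ho : Odd (Nat.card pr.ker)) : Star G := fun k hk _ => by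
  obtain ⟨s, rfl⟩ := hpr k
  have h3 : (s * s) ^ Nat.card pr.ker = 1 := congrArg Subtype.val (pow_card_eq_one' (G := pr.ker)
    (x := ⟨s * s, by rwa [MonoidHom.mem_ker, map_mul]⟩))
  obtain ⟨m, hm⟩ := ho
  have := inSq_of_invol A h2 hψ h h1 hc hfix hz (s := s ^ Nat.card pr.ker) (by rw [← (Commute.refl s).mul_pow, h3])
  rwa [map_pow, hm, pow_succ, pow_mul, sq, hk, one_pow, one_mul] at this

omit hψ in
theorem sq_eq_one {L : List ι} (hL : Orth R L) {s : Γ} (hs : s * s ∈ center Γ)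
    (h1 : ∀ t, t ^ 4 = 1 → s * A.r3.torHom t * (A.r3.torHom t * s)⁻¹ ∈ center Γ)
    (h3 : ∀ r ∈ L, s * S.n r 1 * (S.n r 1 * s)⁻¹ ∈ center Γ) : s * s = 1 := by
  obtain ⟨-, o1, o2, o3, o4⟩ := hL
  obtain ⟨z, hz⟩ := Alg.exists_orderOf (K := K) (n := 4) (by rw [show ((4 : ℕ) : K) = 2 * 2 by norm_num]; exact mul_ne_zero h2 h2)
  let t : κ → κ → Kˣ := fun i k => z ^ (Pi.single i 1 : κ → ℤ) k
  have t4 : ∀ i, t i ^ 4 = 1 := fun i => funext fun k => by
    rw [Pi.pow_apply, ← zpow_natCast, ← zpow_mul, mul_comm, zpow_mul, zpow_natCast, ← hz, pow_orderOf_eq_one, one_zpow]; rfl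
  have tu : ∀ i x, uchr (t i) x = z ^ x i := fun i x => by rw [uchr_zpow_const, single_one_dotProduct]
  obtain ⟨u, hu, m, hm, w, hw, u', hu', rfl⟩ := exists_normal' (A.mem s)
  have k1 := fun i => A.good.conj_normal (A.r3.torHom_mem (t i)) hm hw hu hu'
    (A.good.center_le_H A.top (inv_mem (h1 _ (t4 i)))) (inv_mem (h1 _ (t4 i))) (by
      rw [mem_center_iff.1 (inv_mem (h1 _ (t4 i)))]; group)
  have k2 : ∀ {T u}, (∀ r ∈ T, R.IsPos r) → R.Closed T → u ∈ S.XS T →
      (∀ i, A.r3.torHom (t i) * u * (A.r3.torHom (t i))⁻¹ = u) → u = 1 := fun {T u} a1 a2 a3 a4 => by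
    have : ∀ I : Finset κ, R.Closed (T ∩ ⋂ i ∈ I, R.Phi (t i)) ∧ u ∈ S.XS (T ∩ ⋂ i ∈ I, R.Phi (t i)) := fun I => by
      induction I using Finset.induction_on with
      | empty => simpa using ⟨a2, a3⟩
      | insert i I _ ih =>
        rw [Finset.set_biInter_insert, Set.inter_comm (R.Phi _), ← Set.inter_assoc]
        exact ⟨ih.1.inter (RootSys.closed_Phi _), A.r3.mem_XS_Phi A.good (fun r h => a1 r h.1) ih.1 ih.2 (a4 i)⟩
    have h := (this Finset.univ).2
    rwa [Set.eq_empty_of_forall_notMem (s := T ∩ _) fun r hr => let ⟨i, hi⟩ := o3 r; hi (by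
      have : uchr (t i) _ = 1 := Set.mem_iInter₂.1 hr.2 i (Finset.mem_univ i)
      rwa [tu, ← orderOf_dvd_iff_zpow_eq_one, hz] at this), XS_empty, mem_bot] at h
  obtain rfl := k2 (fun _ h => h) R.closed_pos hu fun i => (k1 i).1
  obtain rfl := k2 (fun _ h => h.1) (R.closed_invs hw.mem_W) hu' fun i => (k1 i).2.2
  simp only [one_mul, mul_one] at hs h1 h3 ⊢
  obtain rfl : w = 1 := RootSys.eq_one_of_isPos hw.mem_W fun j => by
    rw [o4 j (w (R.simple j)) fun i => ?_]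
    · exact R.isPos_simple j
    have h := h1 _ (t4 i)
    rw [show m * A.r3.torHom (t i) * (A.r3.torHom (t i) * m)⁻¹ = m * A.r3.torHom (t i) * m⁻¹ * (A.r3.torHom (t i))⁻¹ by group,
      A.r3.conj_torHom hw, ← map_inv, ← map_mul] at h
    have := uchr_of_center A h (w (R.simple j))
    rwa [uchr_mul, RootSys.uchr_act hw.mem_W, show (t i)⁻¹ = fun k => z ^ (-Pi.single i 1 : κ → ℤ) k from
      funext fun k => (zpow_neg _ _).symm, tu, uchr_zpow_const, neg_dotProduct, single_one_dotProduct, ← zpow_add,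
      ← orderOf_dvd_iff_zpow_eq_one, hz, ← sub_eq_add_neg] at this
  obtain ⟨c, rfl⟩ := A.r3.range_torHom.ge (A.good.mem_H_of_acts_one hm hw)
  rw [← map_mul] at hs ⊢
  have k3 : ∀ r ∈ L, uchr c (R.wt r) = 1 := fun r hr => by
    have a1 := uchr_of_center A hs r
    rw [uchr_mul] at a1
    rcases mul_self_eq_one_iff.1 (congrArg Units.val a1) with e | e
    · exact Units.ext e
    obtain ⟨i, hi⟩ := (o1 r hr).2.2
    have h := inv_mem (h3 r hr)
    rw [show (A.r3.torHom c * S.n r 1 * (S.n r 1 * A.r3.torHom c)⁻¹)⁻¹ =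
      S.n r 1 * A.r3.torHom c * (S.n r 1)⁻¹ * (A.r3.torHom c)⁻¹ by group, A.r3.conj_torHom (S.acts_n r one_ne_zero), ← map_inv,
      ← map_mul, RootSys.act_refl, mul_inv_cancel_comm, show uchr c (R.wt r) = -1 from Units.ext e, inv_neg_one] at h
    have := uchr_of_center A h (R.simple i)
    rw [uchr_zpow_const, show R.co r ⬝ᵥ R.wt (R.simple i) = R.pair r (R.simple i) from rfl,
      (odd_of_not_dvd hi).neg_one_zpow] at this
    exact absurd (congrArg Units.val this) (by simpa [neg_eq_iff_add_eq_zero, one_add_one_eq_two] using h2)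
  rw [show c * c = 1 from funext fun j => by
    rw [Pi.mul_apply, ← uchr_two, ← funext (o2 j), uchr_list]
    exact List.prod_eq_one fun x hx => by
      obtain ⟨r, hr, rfl⟩ := List.mem_map.1 hx
      rw [k3 r hr, one_zpow], map_one]

theorem star_of_orth {rk : (κ → Bool) → ℕ} (hc : Chk R.A id rk) {L : List ι} (hL : Orth R L)
    (hfix : ∀ y, y ∈ ψ.range ↔ σ y = y) (hker : ∀ z, pr z = 1 → ψ z ∈ center Γ) (hz : ∀ z, ψ z ∈ center Γ → pr z = 1)
    (hpr : Function.Surjective pr) : Star G := by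
  have hn : ∀ r, σ (S.n r 1) = S.n r 1 := fun r => by simp [n, A.fe]
  have c1 : ∀ r ∈ L, ∀ s ∈ L, Commute (S.n r 1) (S.n s 1) := fun r hr s hs => by
    by_cases e : r = s
    · exact e ▸ .refl _
    have a1 : R.Long r := (hL.2.1 r hr).1
    have a2 : R.Long (R.neg r) := fun k => (a1 k).trans_eq (R.len_neg r).symm
    have a3 := (hL.2.1 r hr).2.1 s hs e
    refine S.commute_XS (α := {r, R.neg r}) (β := {s, R.neg s}) ?_ (S.n_mem_XS (by simp) (by simp) 1)
      (S.n_mem_XS (by simp) (by simp) 1)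
    rintro _ (rfl | rfl) _ (rfl | rfl)
    exacts [a1.noComb a3.ge, a1.noComb (by simp [R.pair_neg_right, a3]), a2.noComb (by simp [R.pair_neg_left, a3]),
      a2.noComb (by simp [R.pair_neg_left, R.pair_neg_right, a3])]
  have c2 : ∀ t, ∀ L' : List ι, L'.Sublist L → (L'.map (S.n · 1)).prod * A.r3.torHom t * (L'.map (S.n · 1)).prod⁻¹ =
      A.r3.torHom (t * fun j => (L'.map fun r => (uchr t (R.wt r))⁻¹ ^ R.co r j).prod) := fun t L' h => by
    induction L' with
    | nil => simp [← Pi.one_def]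
    | cons r L' ih =>
      rw [List.map_cons, List.prod_cons, mul_inv_rev, ← mul_assoc, mul_assoc _ _ (A.r3.torHom t), mul_assoc (S.n r 1),
        ih ((List.sublist_cons_self r L').trans h), A.r3.conj_torHom (S.acts_n r one_ne_zero), RootSys.act_refl, uchr_mul,
        uchr_orth _ fun s hs => (hL.2.1 s (h.subset (by simp [hs]))).2.1 r (h.subset (by simp)) fun e =>
          (List.nodup_cons.1 (hL.1.sublist h)).1 (e ▸ hs), mul_one, mul_assoc]
      exact congrArg _ (congrArg _ (funext fun j => mul_comm _ _))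
  obtain ⟨n, n1, n2⟩ : ∃ n, (∀ t, t ^ 4 = 1 → twE n σ (A.r3.torHom t) = A.r3.torHom t) ∧
      ∀ r ∈ L, twE n σ (S.n r 1) = S.n r 1 := by
    have hq := Nat.odd_iff.1 (Nat.coprime_two_left.1 (A.frob.coprime (n := 2) h2))
    obtain e | e : q % 4 = 1 ∨ q % 4 = 3 := by omega
    · exact ⟨1, fun t ht => by rw [twE_one, A.map_torHom, pow_eq_pow_mod q ht, e, pow_one], fun r _ => by rw [twE_one, hn]⟩
    refine ⟨(L.map (S.n · 1)).prod, fun t ht => ?_, fun r hr => ?_⟩
    · rw [twE_apply, A.map_torHom, c2 _ L (.refl L), pow_eq_pow_mod q ht, e]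
      refine congrArg _ (funext fun j => ?_)
      simp only [Pi.mul_apply, inv_zpow]
      rw [show (fun r => (uchr (t ^ 3) (R.wt r) ^ R.co r j)⁻¹) = Inv.inv ∘ fun r => uchr (t ^ 3) (R.wt r) ^ R.co r j from rfl,
        ← List.map_map, ← List.prod_inv, ← uchr_list, funext (hL.2.2.1 j), uchr_two, mul_inv_rev, mul_inv_cancel_left,
        inv_eq_iff_mul_eq_one, Pi.pow_apply, ← pow_succ]
      exact congrFun ht j
    · rw [twE_apply, hn, mul_inv_eq_iff_eq_mul]
      exact Commute.list_prod_left _ _ fun x hx => by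
        obtain ⟨s, hs, rfl⟩ := List.mem_map.1 hx
        exact c1 s hs r hr
  obtain ⟨y, hy⟩ := A.lang A.gf n
  let ψ' := (MulAut.conj y).toMonoidHom.comp ψ
  have hψ' : Function.Injective ψ' := (MulAut.conj y).injective.comp hψ
  have hker' : ∀ z, pr z = 1 → ψ' z ∈ center Γ := fun z h => Normal.conj_mem inferInstance _ (hker z h) y
  let H4 := (powMonoidHom 4 : (κ → Kˣ) →* _).ker.map A.r3.torHom
  let N4 := closure {g | ∃ r ∈ L, g = S.n r 1}
  have hD : IsPGroup 2 (N4 ⊔ H4 : Subgroup Γ) := IsPGroup.to_sup_of_normal_right'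
    (fun x => ⟨2, Subtype.ext (pow_of_mem_closure (by
      rintro _ ⟨r, -, rfl⟩
      rw [show 2 ^ 2 = 2 * 2 from rfl, pow_mul, sq (S.n r 1), S.n_one_mul_self, inv_pow, sq,
        A.r3 r _ _ (by simp) (by simp), neg_mul_neg, one_mul, S.h_one, inv_one]) (by
      rintro _ ⟨r, hr, rfl⟩ _ ⟨s, hs, rfl⟩; exact c1 r hr s hs) _ x.2)⟩)
    (IsPGroup.map (fun x => ⟨2, Subtype.ext x.2⟩) _) ((closure_le _).2 (by
      rintro _ ⟨r, -, rfl⟩
      have : ∀ {m w}, S.Acts m w → ∀ x ∈ H4, m * x * m⁻¹ ∈ H4 := fun {m w} h => by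
        rintro _ ⟨t, ht, rfl⟩
        exact ⟨R.act w t, show R.act w t ^ 4 = 1 by rw [← map_pow, show t ^ 4 = 1 from ht, map_one], (A.r3.conj_torHom h t).symm⟩
      exact mem_normalizer_iff.2 fun x => ⟨this (S.acts_n r one_ne_zero) x, fun h => by
        simpa [mul_assoc] using this (S.acts_n r one_ne_zero).inv _ h⟩))
  refine star_of_cover pr hpr (hD.comap_of_injective ψ' hψ') fun s hs hd => inSq_of_invol A h2 hψ A.gf (fun i => hn _) hc hfix hz
    (hψ' ?_)
  have key : ∀ x ∈ N4 ⊔ H4, twE n σ x = x → ψ' s * x * (x * ψ' s)⁻¹ ∈ center Γ := fun x hx e => by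
    obtain ⟨d, rfl⟩ := (range_conj hfix hy x).2 e
    have := hker' (s * d * (d * s)⁻¹) (by rw [map_mul, hd d hx, ← map_mul, mul_inv_cancel, map_one])
    rwa [map_mul, map_mul, map_inv, map_mul] at this
  rw [map_mul, map_one]
  exact sq_eq_one A h2 hL (map_mul ψ' s s ▸ hker' _ hs) (fun t ht => key _ (mem_sup_right ⟨t, ht, rfl⟩) (n1 t ht))
    fun r hr => key _ (mem_sup_left (subset_closure ⟨r, hr, rfl⟩)) (n2 r hr)

end CL.Sq
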