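/-
Involutions in the exceptional groups of Lie type in odd characteristic are squares.
-/
import Cfsg.Agent.INV.Sq.Alg
import Cfsg.Agent.CHEV.AbTyp
import Cfsg.Agent.CHEV.CommChk

set_option autoImplicit false
set_option backward.isDefEq.respectTransparency false

namespace CL.Sq

open CL.Chev Cfsg.Lie Cfsg.Lie.ChevalleyDatum Subgroup

/-- a table of ranks -/
def tb {n : ℕ} (N : ℕ) (a : Fin n → Bool) : ℕ := N / 32 ^ (∑ i, if a i then 2 ^ i.1 else 0) % 32

theorem chk_G2 : Chk (cartanMat chevG2) id (tb 0x8000) := by rw [cartanMat_G2]; decide +kernel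

theorem chk_F4 : Chk (cartanMat chevF4) id (tb 0x10421080001040008000) := by rw [cartanMat_F4]; decide +kernel

theorem chk_E6 : Chk (cartanMat chevE6) id
    (tb 0x2908318c4231441384211884148540398204000020c6210821290203000018841084000802000000) := by
  rw [cartanMat_E6]; decide +kernel

theorem chk_E7 : Chk (cartanMat chevE7) id (tb
    0x314a421063398624084220c625096141c414842120c62609a1291f0301c018841585804a020500002908318c4231441384211884148540398204000020c6210821290203000018841084000802000000) := by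
  rw [cartanMat_E7]; decide +kernel

theorem chk_E8 : Chk (cartanMat chevE8) id (tb
    0x398c52948441c8348c632908358d824a062508422908368dc2316113ede120c62609a152441584212908378e02316533e621ada954dd5639a744624020c62709e12923236a0018841685c05a82060000314a421063398624084220c625096141c414842120c62609a1291f0371c018841585804a020500002908318c4231441384211884148540398204000020c6210821290203000018841084000802000000) := by
  rw [cartanMat_E8]; decide +kernel

theorem chk_2E6 : Chk (cartanMat chevE6) permE6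
    (tb 0x2908318c423144139c231904349544398224180420c6220861290203204218841284803a06230080) := by
  rw [cartanMat_E6]; decide +kernel

theorem chk_3D4 : Chk (cartanMat chevD4) permD4 (tb 0x18880104021040208040) := by rw [cartanMat_D4]; decide +kernel

theorem orth_E7 : Orth (rootSys chevE7) ([63, 66, 73, 78, 87, 92, 125] : List (Fin 126)) := by
  simp only [Orth, rootSys_wt', rootSys_pair', rootSys_co, cor_eq, rootSys_len, rootSys_simple]
  decide +kernel

variable {D : ChevalleyDatum} [Good D] {F : Type} [Field F] [Fintype F] (h2 : (2 : F) ≠ 0)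
include h2

omit [Fintype F] in
theorem two_ne_ac : (2 : AlgebraicClosure F) ≠ 0 := by
  rwa [← map_ofNat (algebraMap F _), _root_.map_ne_zero]

omit h2 [Fintype F] in
theorem thetaS_of_center {K : Type} [Field K] {f : F →+* K} (h1 : Function.Injective (stField D f)) (z : D.SteinbergGroup F)
    (hz : stField D f z ∈ center _) : thetaS D F z = 1 :=
  mem_bot.1 (center_group_eq_bot (D := D) (F := F) ▸ mem_center_iff.2 fun g => by
    obtain ⟨g, rfl⟩ := thetaS_surjective g
    rw [← map_mul, ← map_mul, h1 (a₁ := g * z) (a₂ := z * g) (by rw [map_mul, map_mul, mem_center_iff.1 hz])])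

omit h2 [Fintype F] in
theorem chk_A {π : Fin D.rank → Fin D.rank} {rk : (Fin D.rank → Bool) → ℕ} (h : Chk (cartanMat D) π rk) :
    Chk (rootSys D).A π rk := (of_A_eq_cartanMat (D := D) ▸ h :)

theorem star_chev (hD : D ∈ [chevG2, chevB2, chevD4, chevF4, chevE6, chevE7, chevE8]) {rk : (Fin D.rank → Bool) → ℕ}
    (hc : Chk (cartanMat D) id rk) (ho : Odd (Nat.card (matHom Fˣ (cartanMat D)).ker)) : Star (D.group F) := by
  obtain ⟨φ, A, h1, h3⟩ := exists_alg_st (F := F) hD
  have : Finite (D.SteinbergGroup F) := have := A.finite_fixS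
    Finite.of_injective (fun g => (⟨_, (h3 _).1 ⟨g, rfl⟩⟩ : fixS (stField D φ))) fun _ _ e => h1 (congrArg Subtype.val e)
  exact star_of_odd A (two_ne_ac h2) h1 A.gf (π := id) (fun i => by simp [StData.n, A.fe]) (chk_A hc) h3
    (thetaS_of_center h1) thetaS_surjective (by rwa [card_ker_thetaS (stS_sc hD)])

theorem star_E7 : Star (chevE7.group F) := by
  obtain ⟨φ, A, h1, h3⟩ := exists_alg_st (D := chevE7) (F := F) (by simp)
  exact star_of_orth A (two_ne_ac h2) h1 (chk_A chk_E7) orth_E7 h3
    (fun z => stField_mem_center _) (thetaS_of_center h1) thetaS_surjective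

theorem star_graph (hD : D ∈ [chevG2, chevB2, chevD4, chevF4, chevE6, chevE7, chevE8]) {T : Tw} (h0 : T.Ok D F)
    (h : T.Ok D (AlgebraicClosure F)) (hE : ∀ r, T.E r = 1) {q m : ℕ} (hq : IsPrimePow q) (hc : Nat.card F = q ^ m)
    (hm : 0 < m) {π : Equiv.Perm (Fin D.rank)} (hπ : ∀ i, h.piF i = π i) (hπ' : ∀ i, h.piF^[m] i = i)
    {rk : (Fin D.rank → Bool) → ℕ} (hk : Chk (cartanMat D) π rk) {κ' : Type*}
    (Y : (stG D F).Twist κ') (h1 : ∀ i, Y.π i = h0.piF i) (h3 : ∀ i t, Y.f i t = t ^ q) {W : Set (List (ℕ × F))}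
    (hM : Y.IsTw (jG D W).range) (hgen : (jG D W).range ≤ ((stG D F).U ⊓ Y.Fix) ⊔ ((stG D F).V ⊓ Y.Fix))
    (htau : ∀ t ∈ Y.Tσ, stG_good.tau stG_adjoint t ∈ (jG D W).range)
    (ho : Odd (Nat.card (Y.Tσ ⊓ (matHom Fˣ (Matrix.of (rootSys D).A)).ker : Subgroup _))) : Star (D.genSubgroup F W) := by
  obtain ⟨φ, σ, G1, ψ, pr, hφ, -, rfl, -, -, a3, a4, a5, -, a7, a8⟩ := exists_cover_graph hD (scRep_of_mem hD) h0 h hE hq hc hm
    hπ' Y h1 h3 hM hgen htau
  have A := alg_stS hD hφ
  have g := h.gf hE hφ A hm hπ hπ'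
  have : Finite G1 := have := A.finite_fixS_of_pow g.pow
    Finite.of_injective (fun g => (⟨_, (a4 _).1 ⟨g, rfl⟩⟩ : fixS (h.twF φ))) fun _ _ e => a3 (congrArg Subtype.val e)
  refine star_of_odd A (two_ne_ac h2) a3 g (π := π) (fun i => ?_) (chk_A hk) a4
    (fun z hz => jG_injective W (fieldHom_injective (algebraMap F (AlgebraicClosure F)) ?_)) a5 (a8 ▸ ho)
  · simp only [StData.n, map_mul]
    exact hπ i ▸ congrArg₂ _ (congrArg₂ _ ((h.twF_sm hE ..).trans (by rw [map_one]; rfl))
      ((h.twF_ng_sm hE ..).trans (by simp; rfl))) ((h.twF_sm hE ..).trans (by rw [map_one]; rfl))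
  rw [← a7, map_one, map_one, ← mem_bot, ← center_group_eq_bot, mem_center_iff]
  intro g
  obtain ⟨g, rfl⟩ := thetaS_surjective g
  rw [← map_mul, ← map_mul, mem_center_iff.1 hz]

theorem star_2E6 {q : ℕ} (hq : IsPrimePow q) (hc : Fintype.card F = q ^ 2) : Star (twistedE6 F q) := by
  rw [← Nat.card_eq_fintype_card] at hc
  obtain ⟨T, h, hM, hgen⟩ := exists_twist_E6 hq hc
  exact star_graph h2 (by simp) okE6 okE6 (fun _ => rfl) hq hc two_pos okE6_piF (by simp only [funext okE6_piF]; decide)
    chk_2E6 T (fun i => (h.π i).trans (okE6_piF i).symm) h.f hM hgen (fun t => h.tau_mem stG_good hM stG_adjoint)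
    (h.card_ker ▸ Odd.of_dvd_nat (by decide) (Nat.gcd_dvd_left 3 _))

theorem star_3D4 {q : ℕ} (hq : IsPrimePow q) (hc : Fintype.card F = q ^ 3) : Star (twistedD4 F q) := by
  rw [← Nat.card_eq_fintype_card] at hc
  obtain ⟨T, h, hM, hgen⟩ := exists_twist_D4 hq hc
  exact star_graph h2 (by simp) okD4 okD4 (fun _ => rfl) hq hc three_pos okD4_piF (by simp only [funext okD4_piF]; decide)
    chk_3D4 T (fun i => (h.π i).trans (okD4_piF i).symm) h.f hM hgen (fun t => h.tau_mem stG_good hM stG_adjoint)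
    ((card_eq_one.2 h.inf_ker).symm ▸ odd_one)

theorem star_G2 : Star (chevG2.group F) := star_chev h2 (by simp) chk_G2 (card_ker_G2 (C := Fˣ) ▸ odd_one)

theorem star_F4 : Star (chevF4.group F) := star_chev h2 (by simp) chk_F4 (card_ker_F4 (C := Fˣ) ▸ odd_one)

theorem star_E6 : Star (chevE6.group F) :=
  star_chev h2 (by simp) chk_E6 (card_ker_E6 (C := Fˣ) ▸ Odd.of_dvd_nat (by decide) (Nat.gcd_dvd_left 3 _))

theorem star_E8 : Star (chevE8.group F) := star_chev h2 (by simp) chk_E8 (card_ker_E8 (C := Fˣ) ▸ odd_one)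

end CL.Sq
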