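/-
Matrix groups containing a central product of quaternion groups acting on complementary planes.
-/
import Cfsg.Agent.INV.Sq.Defs

set_option autoImplicit false

namespace CL.Sq

open Subgroup Matrix

variable {ι κ F : Type*} [Fintype ι] [DecidableEq ι] [Field F]

/-- the matrix acting as `X` on the plane spanned by the columns of `U` -/
def blk (U : Matrix ι (Fin 2) F) (X : Matrix (Fin 2) (Fin 2) F) : Matrix ι ι F := 1 + U * (X - 1) * Uᵀ

variable {U V : Matrix ι (Fin 2) F}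

theorem blk_mul (h : Uᵀ * U = 1) (X Y : Matrix (Fin 2) (Fin 2) F) : blk U X * blk U Y = blk U (X * Y) := by
  have : U * (X - 1) * Uᵀ * (U * (Y - 1) * Uᵀ) = U * ((X - 1) * (Y - 1)) * Uᵀ := by
    simp only [Matrix.mul_assoc]; rw [← Matrix.mul_assoc Uᵀ U, h, Matrix.one_mul]
  simp only [blk, add_mul, mul_add, one_mul, mul_one, this]
  simp only [Matrix.mul_sub, Matrix.sub_mul, Matrix.mul_one, Matrix.one_mul]
  abel

theorem blk_one : blk U 1 = 1 := by simp [blk]

theorem blk_comm (h : Uᵀ * V = 0) (X Y : Matrix (Fin 2) (Fin 2) F) : blk U X * blk V Y = blk V Y * blk U X := by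
  have h' : Vᵀ * U = 0 := by simpa using congrArg transpose h
  have : ∀ {U V : Matrix ι (Fin 2) F} (X Y : Matrix (Fin 2) (Fin 2) F), Uᵀ * V = 0 → U * X * Uᵀ * (V * Y * Vᵀ) = 0 :=
      fun {U V} X Y h => by
    simp only [Matrix.mul_assoc]; rw [← Matrix.mul_assoc Uᵀ V, h]; simp
  simp only [blk, add_mul, mul_add, one_mul, mul_one, this _ _ h, this _ _ h']
  abel

theorem det_blk (h : Uᵀ * U = 1) (X : Matrix (Fin 2) (Fin 2) F) : (blk U X).det = X.det := by
  rw [blk, Matrix.mul_assoc, det_one_add_mul_comm, Matrix.mul_assoc, h]; simp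

theorem blk_transpose (X : Matrix (Fin 2) (Fin 2) F) : (blk U X)ᵀ = blk U Xᵀ := by
  simp [blk, Matrix.mul_assoc]

theorem blk_neg_one : blk U (-1) = 1 - (2 : F) • (U * Uᵀ) := by
  rw [blk, show (-1 - 1 : Matrix (Fin 2) (Fin 2) F) = -((2 : F) • 1) by rw [two_smul]; abel]
  simp [sub_eq_add_neg]

/-- the first generator of the quaternion group -/
def mJ : Matrix (Fin 2) (Fin 2) F := !![0, 1; -1, 0]

/-- the second generator of the quaternion group -/
def mK (a b : F) : Matrix (Fin 2) (Fin 2) F := !![a, b; b, -a]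

theorem mJ_sq : (mJ : Matrix (Fin 2) (Fin 2) F) * mJ = -1 := by
  ext i j; fin_cases i <;> fin_cases j <;> simp [mJ]

theorem mK_sq {a b : F} (h : a * a + b * b = -1) : mK a b * mK a b = -1 := by
  ext i j; fin_cases i <;> fin_cases j <;> simp [mK] <;> grind

theorem mJ_mK (a b : F) : mJ * mK a b = -1 * (mK a b * mJ) := by
  ext i j; fin_cases i <;> fin_cases j <;> simp [mK, mJ]

theorem det_mJ : (mJ : Matrix (Fin 2) (Fin 2) F).det = 1 := by simp [mJ]

theorem det_mK {a b : F} (h : a * a + b * b = -1) : (mK a b).det = 1 := by simp [mK]; grind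

theorem scalar_of_comm (h2 : (2 : F) ≠ 0) {a b : F} (h : a * a + b * b = -1) {X : Matrix (Fin 2) (Fin 2) F}
    (h1 : X * mJ = mJ * X) (h3 : X * mK a b = mK a b * X) : X = X 0 0 • 1 := by
  have a1 := congrFun (congrFun h1 0) 0
  have a2 := congrFun (congrFun h1 0) 1
  have a3 := congrFun (congrFun h3 0) 0
  have a4 := congrFun (congrFun h3 0) 1
  simp only [mJ, mK, mul_apply, Fin.sum_univ_two, of_apply, cons_val', cons_val_zero, cons_val_one, cons_val_fin_one]
    at a1 a2 a3 a4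
  have : X 0 1 = 0 := by grind
  ext i j; fin_cases i <;> fin_cases j <;> simp <;> grind

theorem comm_of_smul (h2 : (2 : F) ≠ 0) (h : Uᵀ * U = 1) {v : ι → F} (hv : v ≠ 0) (hv' : Uᵀ *ᵥ v = 0)
    {X : Matrix (Fin 2) (Fin 2) F} (hX : X * X = -1) {s : Matrix ι ι F} {c l : F} (hc : c ≠ 0) (hs : s * s = c • 1)
    (e : s * blk U X = l • (blk U X * s)) : s * blk U X = blk U X * s := by
  have k : ∀ w, Uᵀ *ᵥ w = 0 → blk U X *ᵥ w = w := fun w hw => by
    rw [blk, add_mulVec, ← mulVec_mulVec, hw]; simp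
  have e1 : c • v = (l * l * c) • v := by
    have : s * s * blk U X = (l * l) • (blk U X * (s * s)) := by
      rw [mul_assoc, e, mul_smul_comm, ← mul_assoc, e, smul_mul_assoc, smul_smul, mul_assoc]
    simpa [hs, smul_mulVec, k v hv', smul_smul] using congrArg (· *ᵥ v) this
  rcases mul_self_eq_one_iff.1 (mul_right_cancel₀ hc ((smul_left_injective F hv e1).symm.trans (one_mul c).symm)) with rfl | rfl
  · rwa [one_smul] at e
  have e2 : blk U X *ᵥ (s *ᵥ v) = -(s *ᵥ v) := by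
    have := congrArg (· *ᵥ v) e
    simp only [← mulVec_mulVec, k v hv', neg_smul, one_smul, neg_mulVec] at this
    exact neg_eq_iff_eq_neg.1 this.symm
  have e3 : (U * Uᵀ) *ᵥ (s *ᵥ v) = 0 := by
    have : blk U X *ᵥ (blk U X *ᵥ (s *ᵥ v)) = s *ᵥ v := by rw [e2, mulVec_neg, e2, neg_neg]
    rw [mulVec_mulVec, blk_mul h, hX, blk_neg_one, sub_mulVec, one_mulVec, sub_eq_self, smul_mulVec] at this
    exact (smul_eq_zero.1 this).resolve_left h2
  have e4 : Uᵀ *ᵥ (s *ᵥ v) = 0 := by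
    simpa [mulVec_mulVec, ← Matrix.mul_assoc, h] using congrArg (Uᵀ *ᵥ ·) e3
  rw [k _ e4, eq_neg_iff_add_eq_zero, ← two_smul F, smul_eq_zero] at e2
  have := congrArg (s *ᵥ ·) (e2.resolve_left h2)
  simp [mulVec_mulVec, hs, smul_mulVec, hc, hv] at this

theorem mul_eq_smul (h2 : (2 : F) ≠ 0) (h : Uᵀ * U = 1) {a b : F} (hab : a * a + b * b = -1) {s : Matrix ι ι F}
    (h1 : s * blk U mJ = blk U mJ * s) (h3 : s * blk U (mK a b) = blk U (mK a b) * s) :
    ∃ e : F, s * (U * Uᵀ) = e • (U * Uᵀ) ∧ U * Uᵀ * s = e • (U * Uᵀ) := by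
  have k : ∀ X, s * blk U X = blk U X * s → Uᵀ * s * U * X = X * (Uᵀ * s * U) := fun X e => by
    have := congrArg (Uᵀ * · * U) e
    simp only [blk, mul_add, add_mul, Matrix.mul_add, Matrix.add_mul, mul_one, one_mul, Matrix.mul_assoc, h, Matrix.mul_one,
      add_right_inj] at this
    rw [← Matrix.mul_assoc Uᵀ U, h, Matrix.one_mul] at this
    simpa [Matrix.mul_sub, Matrix.sub_mul, Matrix.mul_assoc] using this
  have e1 : s * (U * Uᵀ) = U * Uᵀ * s := by
    have : s * (blk U mJ * blk U mJ) = blk U mJ * blk U mJ * s := Commute.mul_right h1 h1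
    rw [blk_mul h, mJ_sq, blk_neg_one, mul_sub, sub_mul, mul_one, one_mul, sub_right_inj, mul_smul_comm, smul_mul_assoc] at this
    exact smul_right_injective _ h2 this
  have e2 := scalar_of_comm h2 hab (k _ h1) (k _ h3)
  have e3 : U * Uᵀ * s = (Uᵀ * s * U) 0 0 • (U * Uᵀ) := calc
    _ = U * Uᵀ * (U * Uᵀ * s) := by simp only [Matrix.mul_assoc]; rw [← Matrix.mul_assoc Uᵀ U, h, Matrix.one_mul]
    _ = U * (Uᵀ * s * U) * Uᵀ := by rw [← e1]; simp only [Matrix.mul_assoc]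
    _ = _ := by nth_rw 1 [e2]; simp
  exact ⟨_, e1.trans e3, e3⟩

theorem star_mat [Fintype κ] [Nonempty κ] {M A : Type*} [Group M] [Group A] (h2 : (2 : F) ≠ 0) (ρ : M →* Matrix ι ι F)
    (hρ : Function.Injective ρ) (π : M →* A) (hπ : Function.Surjective π) (hk : ∀ z, π z = 1 ↔ ∃ c : F, ρ z = c • 1)
    (U : κ → Matrix ι (Fin 2) F) (h1 : ∀ i, (U i)ᵀ * U i = 1) (h0 : ∀ i j, i ≠ j → (U i)ᵀ * U j = 0)
    (hv : ∀ i, ∃ v ≠ 0, (U i)ᵀ *ᵥ v = 0) {R : Matrix ι ι F} (hR : ∑ i, U i * (U i)ᵀ + R = 1)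
    (hR' : ∀ s, s * R = R * s → ∃ b : F, s * R = b • R) {a b : F} (hab : a * a + b * b = -1) (j k : κ → M)
    (hj : ∀ i, ρ (j i) = blk (U i) mJ) (hk' : ∀ i, ρ (k i) = blk (U i) (mK a b)) : Star A := by
  classical
  have hz : ∀ i, ρ (j i * j i) = blk (U i) (-1) := fun i => by rw [map_mul, hj, blk_mul (h1 i), mJ_sq]
  have hS : ∀ s ∈ Set.range j ∪ Set.range k, ∃ i X, (X = mJ ∨ X = mK a b) ∧ X * X = -1 ∧ ρ s = blk (U i) X := by
    rintro _ (⟨i, rfl⟩ | ⟨i, rfl⟩)
    exacts [⟨i, _, .inl rfl, mJ_sq, hj i⟩, ⟨i, _, .inr rfl, mK_sq hab, hk' i⟩]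
  have hc : ∀ {i l X Y}, X * Y = Y * X → blk (U i) X * blk (U l) Y = blk (U l) Y * blk (U i) X := fun {i l X Y} e => by
    by_cases h : i = l
    · rw [h, blk_mul (h1 l), blk_mul (h1 l), e]
    · exact blk_comm (h0 i l h) X Y
  have hD : IsPGroup 2 (closure (Set.range j ∪ Set.range k)) := isPGroup_closure (Z := closure (Set.range fun i => j i * j i))
    (sq_of_mem_closure (by
      rintro _ ⟨i, rfl⟩; exact hρ (by rw [map_mul, hz, blk_mul (h1 i), map_one, neg_mul_neg, one_mul, blk_one])) (by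
      rintro _ ⟨i, rfl⟩ _ ⟨l, rfl⟩; exact hρ (by rw [map_mul, map_mul ρ (j l * j l), hz, hz, hc rfl])))
    (fun z hz' s hs => mem_centralizer_singleton_iff.1 ((closure_le (centralizer {s})).2 (by
      rintro _ ⟨i, rfl⟩
      obtain ⟨l, X, -, -, e⟩ := hS s hs
      exact mem_centralizer_singleton_iff.2 (hρ (by rw [map_mul, map_mul ρ s, hz, e, hc (by simp)]))) hz') |>.symm)
    (fun s hs => by
      obtain ⟨l, X, -, e1, e⟩ := hS s hs
      exact subset_closure ⟨l, hρ (by rw [hz, map_mul, e, blk_mul (h1 l), e1])⟩) fun s hs t ht => by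
    obtain ⟨i, X, a1, -, e1⟩ := hS s hs
    obtain ⟨l, Y, a2, -, e2⟩ := hS t ht
    have : ρ s * ρ t = ρ t * ρ s ∨ i = l ∧ X * Y = -1 * (Y * X) := by
      by_cases h : i = l
      · rcases a1 with rfl | rfl <;> rcases a2 with rfl | rfl
        · exact .inl (by rw [e1, e2, hc rfl])
        · exact .inr ⟨h, mJ_mK a b⟩
        · exact .inr ⟨h, by rw [mJ_mK]; simp⟩
        · exact .inl (by rw [e1, e2, hc rfl])
      · exact .inl (by rw [e1, e2, blk_comm (h0 i l h)])
    rcases this with e | ⟨rfl, e⟩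
    · rw [show s * t = t * s from hρ (by rwa [map_mul, map_mul])]; simp
    · rw [show s * t = j i * j i * (t * s) from hρ (by
        rw [map_mul, map_mul, hz, map_mul, e1, e2, blk_mul (h1 i), blk_mul (h1 i), blk_mul (h1 i), e])]
      exact subset_closure ⟨i, by simp [mul_assoc]⟩
  refine star_of_cover π hπ hD fun s hs hd N hN => ?_
  obtain ⟨c, hc'⟩ := (hk _).1 hs
  rw [map_mul] at hc'
  have c0 : c ≠ 0 := by
    rintro rfl
    obtain ⟨v, v0, -⟩ := hv (Classical.arbitrary κ)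
    have := congrArg (fun x => (ρ (s * s)⁻¹ * x) *ᵥ v) hc'
    simp only [← map_mul, inv_mul_cancel, map_one, one_mulVec, zero_smul, mul_zero, zero_mulVec] at this
    exact v0 this
  have cm : ∀ d ∈ Set.range j ∪ Set.range k, ρ s * ρ d = ρ d * ρ s := fun d hd' => by
    obtain ⟨i, X, -, e1, e⟩ := hS d hd'
    obtain ⟨v, v0, v1⟩ := hv i
    obtain ⟨l, hl⟩ := (hk (s * d * (d * s)⁻¹)).1 (by rw [map_mul, hd d (subset_closure hd'), ← map_mul]; simp)
    rw [e]
    refine comm_of_smul h2 (h1 i) v0 v1 e1 c0 hc' (l := l) ?_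
    rw [← e, ← map_mul, ← map_mul, ← one_mul (ρ (d * s)), ← smul_mul_assoc, ← hl, ← map_mul, inv_mul_cancel_right]
  choose e e1 e2 using fun i => mul_eq_smul h2 (h1 i) hab (hj i ▸ cm _ (.inl ⟨i, rfl⟩)) (hk' i ▸ cm _ (.inr ⟨i, rfl⟩))
  have sq : ∀ {E : Matrix ι ι F} {x : F}, E ≠ 0 → ρ s * E = x • E → x * x = c := fun {E x} h h' => smul_left_injective F h (by
    have := congrArg (ρ s * ·) h'.symm
    simp only [mul_smul_comm] at this
    rwa [← mul_assoc, hc', h', smul_smul, smul_mul_assoc, one_mul] at this)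
  have E0 : ∀ i, U i * (U i)ᵀ ≠ 0 := fun i h => by
    simpa [Matrix.mul_assoc, h1 i] using congrArg ((U i)ᵀ * · * U i) h
  obtain ⟨x, x1, x2⟩ : ∃ x, x * x = c ∧ ρ s * R = x • R := by
    by_cases h : R = 0
    · exact ⟨_, sq (E0 (Classical.arbitrary κ)) (e1 _), by simp [h]⟩
    · obtain ⟨x, hx⟩ := hR' (ρ s) (by
        rw [eq_sub_iff_add_eq'.2 hR, mul_sub, sub_mul, Finset.mul_sum, Finset.sum_mul]; simp only [e1, e2, mul_one, one_mul])
      exact ⟨x, sq h hx, hx⟩
  have key : ∀ I : Finset κ, ∃ g, π g ∈ N ∧ ρ g = 1 - (2 : F) • ∑ i ∈ I, U i * (U i)ᵀ := fun I => by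
    induction I using Finset.induction_on with
    | empty => exact ⟨1, by simp, by simp⟩
    | insert i I hi ih =>
      obtain ⟨g, g1, g2⟩ := ih
      refine ⟨j i * j i * g, ?_, ?_⟩
      · rw [map_mul, map_mul]
        exact mul_mem (hN _ (by rw [← map_mul, ← map_mul, hd _ (subset_closure (.inl ⟨i, rfl⟩))])) g1
      · have : U i * (U i)ᵀ * ∑ l ∈ I, U l * (U l)ᵀ = 0 := by
          rw [Finset.mul_sum]
          exact Finset.sum_eq_zero fun l hl => by
            rw [Matrix.mul_assoc, ← Matrix.mul_assoc _ (U l), h0 i l (by rintro rfl; exact hi hl)]; simp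
        rw [map_mul, hz, g2, blk_neg_one, Finset.sum_insert hi]
        simp only [mul_sub, sub_mul, mul_one, one_mul, smul_mul_assoc, mul_smul_comm, this, smul_zero, smul_add]
        abel
  obtain ⟨g, g1, g2⟩ := key (Finset.univ.filter fun i => e i ≠ x)
  have e3 : ρ s = x • ρ g := by
    rw [← mul_one (ρ s), g2, ← hR, mul_add, x2, Finset.mul_sum, Finset.sum_filter, add_sub_right_comm, smul_add,
      Finset.smul_sum, ← Finset.sum_sub_distrib, Finset.smul_sum]
    refine congrArg (· + _) (Finset.sum_congr rfl fun i _ => ?_)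
    rw [e1]
    split_ifs with h
    · rw [(mul_self_eq_mul_self_iff.1 ((sq (E0 i) (e1 i)).trans x1.symm)).resolve_left h]; module
    · simp [not_not.1 h]
  rwa [show π s = π g from mul_inv_eq_one.1 (by
    rw [← map_inv, ← map_mul, hk]; exact ⟨x, by rw [map_mul, e3, smul_mul_assoc, ← map_mul, mul_inv_cancel, map_one]⟩)]

end CL.Sq
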