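/-
The linear, symplectic and unitary groups.
-/
import Cfsg.Agent.INV.Sq.Mat
import Cfsg.Agent.CLAS.UniGen
import Cfsg.Agent.CLAS.SpCenter

set_option autoImplicit false

namespace CL.Sq

open Subgroup Matrix Cfsg

variable {ι κ F : Type*} [Fintype ι] [DecidableEq ι] [Field F]

/-- two columns of the identity matrix -/
def sel (F : Type*) [Field F] (g : κ × Fin 2 → ι) (i : κ) : Matrix ι (Fin 2) F := of fun r c => if r = g (i, c) then 1 else 0

theorem sel_mul (g : κ × Fin 2 → ι) (i j : κ) :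
    (sel F g i)ᵀ * sel F g j = of fun c d => if g (i, c) = g (j, d) then 1 else 0 := by
  ext c d; simp [sel, Matrix.mul_apply, eq_comm]

theorem sel_mul_self {g : κ × Fin 2 → ι} (hg : Function.Injective g) (i : κ) : (sel F g i)ᵀ * sel F g i = 1 := by
  ext c d; simp [sel_mul, hg.eq_iff, one_apply]

theorem star_sel [Fintype κ] [Nonempty κ] {M A : Type*} [Group M] [Group A] (h2 : (2 : F) ≠ 0) (ρ : M →* Matrix ι ι F)
    (hρ : Function.Injective ρ) (π : M →* A) (hπ : Function.Surjective π) (hk : ∀ z, π z = 1 ↔ ∃ c : F, ρ z = c • 1)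
    {g : κ × Fin 2 → ι} (hg : Function.Injective g) (hs : ∀ r r', r ∉ Set.range g → r' ∉ Set.range g → r = r')
    (h3 : 3 ≤ Fintype.card ι) {a b : F} (hab : a * a + b * b = -1) (hj : ∀ i, blk (sel F g i) mJ ∈ Set.range ρ)
    (hk' : ∀ i, blk (sel F g i) (mK a b) ∈ Set.range ρ) : Star A := by
  classical
  choose j hj using hj
  choose k hk' using hk'
  refine star_mat h2 ρ hρ π hπ hk (sel F g) (sel_mul_self hg) (fun i l h => ?_) (fun i => ?_)
    (R := diagonal fun r => if r ∈ Set.range g then 0 else 1) ?_ (fun s e => ?_) hab j k hj hk'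
  · ext c d; simp [sel_mul, hg.eq_iff, h]
  · obtain ⟨r, -, hr⟩ := Finset.exists_mem_notMem_of_card_lt_card (s := {g (i, 0), g (i, 1)}) (t := Finset.univ)
      (Finset.card_le_two.trans_lt h3)
    refine ⟨Pi.single r 1, by simp, funext fun c => ?_⟩
    have : r ≠ g (i, c) := by rintro rfl; fin_cases c <;> simp at hr
    simp [sel, this]
  · ext r r'
    have : ∑ i, (sel F g i * (sel F g i)ᵀ) r r' = ∑ x, if r = g x ∧ r' = g x then 1 else 0 := by
      rw [Fintype.sum_prod_type]; simp only [sel, mul_apply, transpose_apply, of_apply, ite_and, ite_mul, one_mul, zero_mul]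
    rw [Matrix.add_apply, Matrix.sum_apply, this]
    by_cases h : r ∈ Set.range g
    · obtain ⟨x, rfl⟩ := h
      rw [Finset.sum_eq_single x (fun y _ h => if_neg fun e => h (hg e.1).symm) (by simp)]
      simp [-Set.mem_range, Set.mem_range_self, diagonal_apply, one_apply, eq_comm]
    · rw [Finset.sum_eq_zero fun y _ => if_neg fun e => h ⟨y, e.1.symm⟩]
      simp [-Set.mem_range, diagonal_apply, one_apply, h]
  · by_cases h : ∃ x, x ∉ Set.range g
    · obtain ⟨x, hx⟩ := h
      refine ⟨s x x, ext fun r r' => ?_⟩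
      have e1 := congrFun (congrFun e r) r'
      simp only [mul_diagonal, diagonal_mul, Matrix.smul_apply, diagonal_apply, smul_eq_mul] at e1 ⊢
      by_cases h1 : r' ∈ Set.range g
      · by_cases h3 : r = r' <;> simp [-Set.mem_range, h1, h3]
      obtain rfl := hs _ _ h1 hx
      by_cases h3 : r = r'
      · simp [h3]
      · rw [e1, if_neg h3, if_pos (by_contra fun h => h3 (hs _ _ h hx))]; simp
    · push Not at h
      exact ⟨0, by simp [-Set.mem_range, h]⟩

theorem exists_sq_add_sq [Finite F] (h2 : (2 : F) ≠ 0) (c : F) : ∃ a b : F, a * a + b * b = c := by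
  have := Fintype.ofFinite F
  obtain ⟨a, b, h⟩ := FiniteField.exists_root_sum_quadratic (f := Polynomial.X ^ 2) (g := Polynomial.X ^ 2 - Polynomial.C c)
    (Polynomial.degree_X_pow 2) (Polynomial.degree_X_pow_sub_C two_pos c)
    (FiniteField.odd_card_of_char_ne_two fun e => h2 (by exact_mod_cast e ▸ ringChar.Nat.cast_ringChar (R := F)))
  exact ⟨a, b, by simp at h; grind⟩

/-- consecutive pairs of indices -/
def prs (n : ℕ) (x : Fin (n / 2) × Fin 2) : Fin n := ⟨2 * x.1 + x.2, by omega⟩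

theorem prs_inj (n : ℕ) : Function.Injective (prs n) := fun x y h => by
  have := congrArg Fin.val h
  simp only [prs] at this
  exact Prod.ext (Fin.ext (by omega)) (Fin.ext (by omega))

theorem prs_sub (n : ℕ) (r r' : Fin n) (h : r ∉ Set.range (prs n)) (h' : r' ∉ Set.range (prs n)) : r = r' := by
  have k : ∀ r : Fin n, r ∉ Set.range (prs n) → r.1 + 1 = n := fun r h => by_contra fun e =>
    h ⟨(⟨r / 2, by omega⟩, ⟨r % 2, by omega⟩), Fin.ext (by simp only [prs]; omega)⟩
  exact Fin.ext (by have := k r h; have := k r' h'; omega)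

theorem star_PSL [Finite F] (h2 : (2 : F) ≠ 0) {n : ℕ} (hn : 3 ≤ n) : Star (ProjectiveSpecialLinearGroup (Fin n) F) := by
  obtain ⟨a, b, hab⟩ := exists_sq_add_sq h2 (-1 : F)
  have : Nonempty (Fin (n / 2)) := ⟨⟨0, by omega⟩⟩
  refine star_sel h2 (slToMat n F) (fun x y h => Subtype.ext h) (QuotientGroup.mk' _) (QuotientGroup.mk'_surjective _)
    (fun z => (QuotientGroup.eq_one_iff _).trans ⟨fun h => ?_, fun ⟨c, h⟩ => mem_center_iff.2 fun y => Subtype.ext ?_⟩)
    (prs_inj n) (prs_sub n) (by simpa) hab (fun i => ⟨⟨_, (det_blk (sel_mul_self (prs_inj n) i) _).trans det_mJ⟩, rfl⟩)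
    fun i => ⟨⟨_, (det_blk (sel_mul_self (prs_inj n) i) _).trans (det_mK hab)⟩, rfl⟩
  · obtain ⟨c, -, h⟩ := Matrix.SpecialLinearGroup.mem_center_iff.1 h
    exact ⟨c, h.symm.trans (smul_one_eq_diagonal c).symm⟩
  · change z.1 = _ at h
    simp [h]

theorem star_PSU {K : Type*} [Field K] [Fintype K] {q : ℕ} (hK : Fintype.card K = q ^ 2) (h2 : (2 : K) ≠ 0) {n : ℕ}
    (hn : 3 ≤ n) : Star (PSU n K q) := by
  let σ := Uni.sig hK
  obtain ⟨a, b, hab, ha, hb⟩ : ∃ a b : K, a * a + b * b = -1 ∧ σ a = -a ∧ σ b = -b := by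
    obtain ⟨x, hx⟩ := DFunLike.ne_iff.1 (Uni.sig_ne_id hK)
    have d0 : σ x - x ≠ 0 := sub_ne_zero.2 hx
    have d1 : σ (σ x - x) = -(σ x - x) := by rw [map_sub, Uni.sig_sig, neg_sub]
    generalize σ x - x = d at d0 d1
    obtain ⟨a, b, h⟩ := exists_sq_add_sq (F := σ.eqLocusField (RingHom.id K)) (fun e => h2 (congrArg Subtype.val e))
      ⟨-(d * d)⁻¹, by simp [d1]⟩
    have h' : a.1 * a + b * b = -(d * d)⁻¹ := congrArg Subtype.val h
    exact ⟨a * d, b * d, by grind, by rw [map_mul, d1, a.2]; simp, by rw [map_mul, d1, b.2]; simp⟩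
  have key : ∀ i X, X.det = 1 → Xᵀ * X.map σ = 1 →
      blk (sel K (prs n) i) X ∈ Set.range ((slToMat n K).comp (SU n K q).subtype) := fun i X h1 h3 => by
    have h := sel_mul_self (F := K) (prs_inj n) i
    refine ⟨⟨⟨_, (det_blk h X).trans h1⟩, fun u v => ?_⟩, rfl⟩
    have e : ∀ x y : Fin n → K, hermForm n K q x y = x ⬝ᵥ σ ∘ y := fun _ _ => rfl
    have e1 : (sel K (prs n) i).map σ = sel K (prs n) i := by ext; simp [sel, apply_ite]
    have e2 : (blk (sel K (prs n) i) X).map σ = blk (sel K (prs n) i) (X.map σ) := by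
      rw [blk, Matrix.map_add _ (map_add σ), Matrix.map_mul, Matrix.map_mul, transpose_map, e1, Matrix.map_sub _ (map_sub σ),
        Matrix.map_one _ (map_zero σ) (map_one σ), Matrix.map_one _ (map_zero σ) (map_one σ), blk]
    change hermForm n K q (blk _ X *ᵥ u) (blk _ X *ᵥ v) = _
    rw [e, e, show σ ∘ _ = _ from funext (RingHom.map_mulVec σ _ v), dotProduct_mulVec, vecMul_mulVec, e2, blk_transpose, blk_mul h, h3, blk_one,
      vecMul_one]
  have : Nonempty (Fin (n / 2)) := ⟨⟨0, by omega⟩⟩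
  refine star_sel h2 ((slToMat n K).comp (SU n K q).subtype) (fun x y h => Subtype.ext (Subtype.ext h)) (QuotientGroup.mk' _)
    (QuotientGroup.mk'_surjective _) (fun z => (QuotientGroup.eq_one_iff _).trans (Uni.mem_center_SU_iff hK (by omega)))
    (prs_inj n) (prs_sub n) (by simpa) hab (fun i => key i _ det_mJ ?_) fun i => key i _ (det_mK hab) ?_
  · ext i j; fin_cases i <;> fin_cases j <;> simp [mJ, Matrix.mul_apply]
  · ext i j; fin_cases i <;> fin_cases j <;> simp [mK, Matrix.mul_apply, ha, hb] <;> grind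

theorem blk_form {U : Matrix ι (Fin 2) F} (h : Uᵀ * U = 1) {B : Matrix ι ι F} {B' X : Matrix (Fin 2) (Fin 2) F}
    (e1 : B * U = U * B') (e2 : Uᵀ * B = B' * Uᵀ) (h1 : X * B' * Xᵀ = B') : blk U X * B * (blk U X)ᵀ = B := by
  have e3 : U * (X - 1) * Uᵀ * B = U * ((X - 1) * B') * Uᵀ := by
    rw [Matrix.mul_assoc, e2]; simp [Matrix.mul_assoc]
  have e4 : B * (U * (Xᵀ - 1) * Uᵀ) = U * (B' * (Xᵀ - 1)) * Uᵀ := by
    rw [← Matrix.mul_assoc, ← Matrix.mul_assoc, e1]; simp [Matrix.mul_assoc]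
  have e5 : U * ((X - 1) * B') * Uᵀ * (U * (Xᵀ - 1) * Uᵀ) = U * ((X - 1) * B' * (Xᵀ - 1)) * Uᵀ := by
    simp only [Matrix.mul_assoc]; rw [← Matrix.mul_assoc Uᵀ U, h, Matrix.one_mul]
  rw [blk_transpose, blk, blk, add_mul, one_mul, e3, mul_add, mul_one, add_mul, e4, e5]
  simp only [Matrix.mul_sub, Matrix.sub_mul, Matrix.mul_one, Matrix.one_mul, h1]
  abel

theorem star_PSp [Finite F] (h2 : (2 : F) ≠ 0) {m : ℕ} (hm : 2 ≤ m) : Star (PSp m F) := by
  obtain ⟨a, b, hab⟩ := exists_sq_add_sq h2 (-1 : F)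
  have : Nonempty (Fin m) := ⟨⟨0, by omega⟩⟩
  let g : Fin m × Fin 2 → Fin m ⊕ Fin m := fun x => if x.2 = 0 then .inl x.1 else .inr x.1
  have hg : Function.Injective g := by
    rintro ⟨i, c⟩ ⟨j, d⟩ h
    fin_cases c <;> fin_cases d <;> simp_all [g]
  have key : ∀ i (X : Matrix (Fin 2) (Fin 2) F), X * mJ * Xᵀ = mJ →
      blk (sel F g i) X ∈ Set.range (symplecticGroup (Fin m) F).subtype := fun i X h1 => by
    have h := sel_mul_self (F := F) hg i
    refine ⟨⟨_, SymplecticGroup.mem_iff.2 ?_⟩, rfl⟩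
    refine blk_form h (B' := -mJ) ?_ ?_ (by rw [Matrix.mul_neg, Matrix.neg_mul, h1])
    · ext (r | r) c <;> fin_cases c <;> simp [J, sel, g, mJ, Matrix.mul_apply, one_apply] <;> split_ifs <;> simp
    · ext c (r | r) <;> fin_cases c <;> simp [J, sel, g, mJ, Matrix.mul_apply, one_apply, eq_comm] <;> split_ifs <;> simp
  refine star_sel h2 (symplecticGroup (Fin m) F).subtype Subtype.val_injective (QuotientGroup.mk' _)
    (QuotientGroup.mk'_surjective _) (fun z => (QuotientGroup.eq_one_iff _).trans ⟨SpCenter.exists_eq_scalar_of_mem_center,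
      fun ⟨c, h⟩ => mem_center_iff.2 fun y => Subtype.ext ?_⟩) hg (fun r _ h => (h ?_).elim) (by simp; omega) hab
    (fun i => key i _ ?_) fun i => key i _ ?_
  · change z.1 = _ at h
    simp [h]
  · rcases r with r | r
    exacts [⟨(r, 0), rfl⟩, ⟨(r, 1), rfl⟩]
  · ext i j; fin_cases i <;> fin_cases j <;> simp [mJ, Matrix.mul_apply]
  · ext i j; fin_cases i <;> fin_cases j <;> simp [mK, mJ, Matrix.mul_apply] <;> grind

end CL.Sq
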