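/-
The orthogonal groups.
-/
import Cfsg.Agent.INV.Sq.Defs
import Cfsg.Agent.CLAS.OrthOmega
import Cfsg.Agent.S0756

set_option autoImplicit false

namespace CL.Sq

open Subgroup Module QuadraticMap CL.Orth CL.OrthE

variable {F V ι : Type*} [Field F] [AddCommGroup V] [Module F V] {Q : QuadraticForm F V}

theorem refl_comm {u v : V} (h : polar Q u v = 0) : Commute (refl Q u) (refl Q v) :=
  mul_inv_eq_iff_eq_mul.1 ((conj_refl _ v).trans (congrArg _ (refl_of_polar_eq_zero h)))

theorem comm_refl {s : O Q} {v : V} {e : F} (he : e ≠ 0) (h : s.1 v = e • v) : Commute s (refl Q v) :=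
  mul_inv_eq_iff_eq_mul.1 ((conj_refl _ v).trans (by rw [h, refl_smul he]))

variable [Fintype ι] [DecidableEq ι] (b : Basis ι F V) (hb : ∀ i j, i ≠ j → polar Q (b i) (b j) = 0)
  (h0 : ∀ i, Q (b i) ≠ 0)
include hb h0

omit [Fintype ι] in
theorem refl_basis (i j : ι) : (refl Q (b i)).1 (b j) = if j = i then -b j else b j := by
  split_ifs with h
  · rw [h, refl_self (h0 i)]
  · exact refl_of_polar_eq_zero (hb _ _ (Ne.symm h))

omit [Fintype ι] in
theorem repr_refl (i j : ι) (v : V) : b.repr ((refl Q (b i)).1 v) j = if j = i then -b.repr v j else b.repr v j := by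
  have : (b.coord j).comp (refl Q (b i)).1.toLinearMap = if j = i then -b.coord j else b.coord j := b.ext fun k => by
    by_cases h : j = i <;> by_cases h' : k = i <;> simp [refl_basis b hb h0, h, h', Finsupp.single_apply, eq_comm]
  have := congrArg (· v) this
  split_ifs at this ⊢ <;> simpa using this

variable [Finite F] [FiniteDimensional F V]

theorem refl_mul_mem (hQ : (polarBilin Q).Nondegenerate) (h7 : 7 ≤ Fintype.card ι) {i j : ι} (h : Q (b i) = Q (b j)) :
    refl Q (b i) * refl Q (b j) ∈ commutator (O Q) := by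
  have hF : Nat.card F ≠ 2 ∨ finrank F V ≠ 4 := .inr (by rw [finrank_eq_card_basis b]; omega)
  rw [mem_commutator_iff hQ hF, dsign_mul hQ hF, spin_mul hQ hF, dsign_refl hQ (h0 i), dsign_refl hQ (h0 j), spin_refl hQ (h0 i),
    spin_refl hQ (h0 j), h]
  simp

omit hb h0 b in
theorem exists_three (h7 : 7 ≤ Fintype.card ι) (T : Finset ι) (hT : T.card ≤ 4) :
    ∃ x y z, x ≠ y ∧ x ≠ z ∧ y ≠ z ∧ x ∉ T ∧ y ∉ T ∧ z ∉ T := by
  obtain ⟨x, y, z, h⟩ := Finset.two_lt_card_iff.1 (show 2 < Tᶜ.card by rw [Finset.card_compl]; omega)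
  simp only [Finset.mem_compl] at h
  exact ⟨x, y, z, h.2.2.2.1, h.2.2.2.2.1, h.2.2.2.2.2, h.1, h.2.1, h.2.2.1⟩

theorem diag_of_comm (h2 : (2 : F) ≠ 0) (hQ : (polarBilin Q).Nondegenerate) (h7 : 7 ≤ Fintype.card ι) {l : ι} {c : F}
    (hc : ∀ i ≠ l, Q (b i) = c) (s : commutator (O Q)) (hd : ∀ d : commutator (O Q), (∃ i j, d.1 = refl Q (b i) * refl Q (b j)) →
      (s * d)⁻¹ * (d * s) ∈ center (commutator (O Q))) : ∀ k, ∃ e : F, s.1.1 (b k) = e • b k := by
  classical
  have hn : finrank F V = Fintype.card ι := finrank_eq_card_basis b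
  have k1 : ∀ i ≠ l, ∀ j ≠ l, ∀ k, k ≠ i → k ≠ j → i ≠ j → b.repr (s.1.1 (b k)) i = 0 := fun i hi j hj k a1 a2 a3 => by
    let d : commutator (O Q) := ⟨_, refl_mul_mem b hb h0 hQ h7 ((hc i hi).trans (hc j hj).symm)⟩
    have fx : ∀ k, k ≠ i → k ≠ j → d.1.1 (b k) = b k := fun k a1 a2 => by
      simp [d, O_mul_apply, refl_basis b hb h0, a1, a2]
    have rp : ∀ v k, b.repr (d.1.1 v) k = if k = i ∨ k = j then -b.repr v k else b.repr v k := fun v k => by
      by_cases a1 : k = i <;> by_cases a2 : k = j <;> simp_all [d, O_mul_apply, repr_refl b hb h0]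
    have e := hd d ⟨i, j, rfl⟩
    have zr : ∀ x : F, x = -x → x = 0 := fun x h => by grind
    rcases (mem_center_commutator_iff hQ (by omega) _).1 e with e | e
    · have : s * d = d * s := inv_mul_eq_one.1 (Subtype.ext e)
      have e1 : s.1.1 (d.1.1 (b k)) = d.1.1 (s.1.1 (b k)) := congrArg (fun x => x.1.1 (b k)) this
      rw [fx k a1 a2] at e1
      exact zr _ (by nth_rw 1 [e1, rp]; simp)
    have e1 : ∀ v, d.1.1 (s.1.1 v) = -s.1.1 (d.1.1 v) := fun v => by
      have := congrArg (s * d).1.1 (e v)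
      rw [← O_mul_apply, ← coe_mul, mul_inv_cancel_left, map_neg] at this
      exact this
    have e2 : ∀ k : ↥({i, j}ᶜ : Finset ι), s.1.1 (b k) ∈ Submodule.span F (b '' ({i, j} : Finset ι)) := fun k => by
      have hk : k.1 ≠ i ∧ k.1 ≠ j := by simpa using k.2
      refine b.mem_span_image.2 fun m hm => by_contra fun h => Finsupp.mem_support_iff.1 hm (zr _ ?_)
      have := congrArg (b.repr · m) (e1 (b k))
      simpa [rp, fx k hk.1 hk.2, show ¬ (m = i ∨ m = j) by simpa using h] using this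
    have e3 : LinearIndependent F fun k => (⟨_, e2 k⟩ : Submodule.span F _) := .of_comp (Submodule.subtype _)
      ((b.linearIndependent.comp _ Subtype.val_injective).map' s.1.1.toLinearMap s.1.1.ker)
    have e4 := e3.fintype_card_le_finrank
    rw [← Finset.coe_image] at e4
    have := e4.trans ((finrank_span_finset_le_card _).trans (Finset.card_image_le.trans Finset.card_le_two))
    rw [Fintype.card_coe, Finset.card_compl] at this
    have := Finset.card_le_two (a := i) (b := j)
    omega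
  have k2 : ∀ k m, m ≠ k → m ≠ l → b.repr (s.1.1 (b k)) m = 0 := fun k m a1 a2 => by
    obtain ⟨x, -, -, -, -, -, h, -⟩ := exists_three h7 {k, m, l} (Finset.card_le_three.trans (by omega))
    simp only [Finset.mem_insert, Finset.mem_singleton, not_or] at h
    exact k1 m a2 x h.2.2 k a1.symm (Ne.symm h.1) (Ne.symm h.2.1)
  have k3 : ∀ k, (∀ m ≠ k, b.repr (s.1.1 (b k)) m = 0) → s.1.1 (b k) = b.repr (s.1.1 (b k)) k • b k := fun k h => by
    nth_rw 1 [← b.sum_repr (s.1.1 (b k))]
    exact Finset.sum_eq_single k (fun m _ a => by rw [h m a, zero_smul]) (by simp)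
  exact fun k => ⟨_, k3 k fun m a => by
    by_cases a' : m = l
    · have e1 := k3 l fun m a => k2 l m a a
      have e2 := O_polar s.1 (b k) (b l)
      rw [hb k l (a' ▸ a.symm), ← b.sum_repr (s.1.1 (b k)), e1, polar_smul_right', ← polarBilin_apply_apply,
        LinearMap.map_sum₂, Finset.sum_eq_single l (fun m _ a => by simp [hb m l a]) (by simp)] at e2
      simp only [map_smul, LinearMap.smul_apply, polarBilin_apply_apply, polar_self', smul_eq_mul, mul_eq_zero, h2, h0 l,
        or_false] at e2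
      exact a' ▸ e2.resolve_left fun h => b.ne_zero l (s.1.1.injective (by rw [e1, h, zero_smul, map_zero]))
    · exact k2 k m a a'⟩

omit hb h0 [Fintype ι] [DecidableEq ι] [Finite F] [FiniteDimensional F V] in
theorem ext_basis {g g' : O Q} (h : ∀ k, g.1 (b k) = g'.1 (b k)) : g = g' :=
  Subtype.ext (LinearEquiv.toLinearMap_injective (b.ext h))

omit [Fintype ι] in
theorem sign_diag (hQ : (polarBilin Q).Nondegenerate) (I : Finset ι) : ∀ g : O Q,
    (∀ k, g.1 (b k) = if k ∈ I then -b k else b k) → dsign g = (-1) ^ I.card ∧ spin g = ∏ k ∈ I, sqSign (Q (b k)) := by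
  induction I using Finset.induction_on with
  | empty => exact fun g h => by simp [ext_basis b (g := g) (g' := 1) h, dsign_one, spin_one]
  | insert i I hi ih =>
    intro g h
    obtain ⟨a1, a2⟩ := ih (refl Q (b i) * g) fun k => by
      rw [O_mul_apply, h]
      by_cases a : k = i
      · simp [a, hi, refl_basis b hb h0]
      · by_cases a' : k ∈ I <;> simp [a, a', refl_basis b hb h0]
    rw [dsign_refl_mul hQ _ (h0 i)] at a1
    rw [spin_refl_mul hQ _ (h0 i)] at a2
    rw [Finset.card_insert_of_notMem hi, Finset.prod_insert hi, pow_succ, ← a1, ← a2, ← mul_assoc, Int.units_mul_self]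
    simp

theorem star_basis (h2 : (2 : F) ≠ 0) (hQ : (polarBilin Q).Nondegenerate) (h7 : 7 ≤ Fintype.card ι) {l : ι} {c : F}
    (hc : ∀ i ≠ l, Q (b i) = c) (hl : Q (b l) = c ∨ sqSign (Q (b l)) ≠ sqSign c) : Star (pOm (O Q)) := by
  classical
  have hn : finrank F V = Fintype.card ι := finrank_eq_card_basis b
  have hF : Nat.card F ≠ 2 ∨ finrank F V ≠ 4 := .inr (by omega)
  have mem : ∀ g, g ∈ commutator (O Q) ↔ dickson hQ hF g = 1 ∧ spinor hQ hF g = 1 := mem_commutator_iff hQ hF
  have d1 : ∀ {v}, Q v ≠ 0 → dickson hQ hF (refl Q v) = -1 := dsign_refl hQ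
  have d2 : ∀ {v}, Q v ≠ 0 → spinor hQ hF (refl Q v) = sqSign (Q v) := spin_refl hQ
  have rc : ∀ i j, Commute (refl Q (b i)) (refl Q (b j)) := fun i j => by
    by_cases h : i = j
    exacts [h ▸ .refl _, refl_comm (hb i j h)]
  refine star_of_cover (QuotientGroup.mk' _) (QuotientGroup.mk'_surjective _)
    (D := closure {d | ∃ i j, d.1 = refl Q (b i) * refl Q (b j)}) (isPGroup_closure (Z := ⊥) (by simp) (by simp) ?_ ?_)
    fun s _ hd N hN => ?_
  · rintro d ⟨i, j, e⟩
    exact Subtype.ext (by rw [coe_mul, e, (rc j i).mul_mul_mul_comm, refl_mul_self, refl_mul_self, mul_one]; rfl)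
  · rintro d ⟨i, j, e⟩ d' ⟨i', j', e'⟩
    have : d * d' = d' * d := Subtype.ext (by
      rw [coe_mul, coe_mul, e, e']; exact ((rc _ _).mul_right (rc _ _)).mul_left ((rc _ _).mul_right (rc _ _)))
    simp [this]
  choose e he using diag_of_comm b hb h0 h2 hQ h7 hc s fun d h => QuotientGroup.eq.1 (hd d (subset_closure h))
  have e1 : ∀ k, e k = 1 ∨ e k = -1 := fun k => mul_self_eq_one_iff.1 (mul_right_cancel₀ (h0 k) (by
    rw [← Q_smul, ← he, O_map, one_mul]))
  have e0 : ∀ k, e k ≠ 0 := fun k h => by rcases e1 k with a | a <;> simp [h] at a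
  let I := Finset.univ.filter fun k => e k ≠ 1
  have hs : ∀ k, s.1.1 (b k) = if k ∈ I then -b k else b k := fun k => by
    rcases e1 k with a | a <;> simp [I, he, a, show (-1 : F) ≠ 1 by grind]
  obtain ⟨a1, a2⟩ := sign_diag b hb h0 hQ I _ hs
  rw [((mem_commutator_iff hQ hF _).1 s.2).1, eq_comm, neg_one_pow_eq_one_iff_even (by decide)] at a1
  have hI : ∀ k ∈ I, Q (b k) = c := fun k hk => by
    by_cases a : k = l
    · subst a
      refine hl.resolve_right fun h => h ?_
      rw [((mem_commutator_iff hQ hF _).1 s.2).2, ← Finset.mul_prod_erase _ _ hk, Finset.prod_congr rfl fun m hm =>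
        congrArg sqSign (hc m (Finset.ne_of_mem_erase hm)), Finset.prod_const,
        Int.units_pow_eq_pow_mod_two, show (I.erase k).card % 2 = 1 by
          have := Finset.card_erase_add_one hk; have := Nat.even_iff.1 a1; omega, pow_one] at a2
      rw [eq_inv_of_mul_eq_one_left a2.symm, Int.units_inv_eq_self]
    · exact hc k a
  have k6 : ∀ i ∈ I, ∀ j ∈ I, i ≠ j → ∀ d : commutator (O Q), d.1 = refl Q (b j) * refl Q (b i) →
      QuotientGroup.mk' _ d ∈ N := fun i hi j hj hij d hd => by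
    obtain ⟨x, y, z, b1, b2, b3, b4, b5, b6, b7⟩ : ∃ x y z, x ≠ y ∧ x ≠ z ∧ y ≠ z ∧ x ∉ ({i, j, l} : Finset ι) ∧
        y ∉ ({i, j, l} : Finset ι) ∧ z ∉ ({i, j, l} : Finset ι) ∧ e x = e y := by
      obtain ⟨x, y, z, b1, b2, b3, b4, b5, b6⟩ := exists_three h7 {i, j, l} (Finset.card_le_three.trans (by omega))
      have : e x = e y ∨ e x = e z ∨ e y = e z := by have := e1 x; have := e1 y; have := e1 z; grind
      rcases this with h | h | h
      exacts [⟨x, y, z, b1, b2, b3, b4, b5, b6, h⟩, ⟨x, z, y, b2, b1, b3.symm, b4, b6, b5, h⟩,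
        ⟨y, z, x, b3, b1.symm, b2.symm, b5, b6, b4, h⟩]
    simp only [Finset.mem_insert, Finset.mem_singleton, not_or] at b4 b5 b6
    have c0 : c ≠ 0 := hI i hi ▸ h0 i
    have q1 : Q (b i - b j) = 2 * c := by rw [Q_sub, hI i hi, hI j hj, hb i j hij]; ring
    have q2 : Q (b x - b y) = 2 * c := by rw [Q_sub, hc x b4.2.2, hc y b5.2.2, hb x y b1]; ring
    have q0 := mul_ne_zero h2 c0
    let w : commutator (O Q) := ⟨refl Q (b i - b j) * refl Q (b i) * (refl Q (b x - b y) * refl Q (b z)), (mem _).2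
      ⟨by simp [d1 (h0 _), d1 (q1 ▸ q0), d1 (q2 ▸ q0)], by
        simp only [map_mul, d2 (h0 _), d2 (q1 ▸ q0), d2 (q2 ▸ q0), q1, q2, hI i hi, hc z b6.2.2, Int.units_mul_self]⟩⟩
    have c1 : Commute s.1 w.1 := ((comm_refl (e := -1) (by simp) (by simp [hs, hi, hj, sub_eq_add_neg])).mul_right
      (comm_refl (e0 i) (he i))).mul_right ((comm_refl (e0 x) (by rw [map_sub, he, he, b7, smul_sub])).mul_right
      (comm_refl (e0 z) (he z)))
    have c2 : Commute (refl Q (b i - b j) * refl Q (b i)) (refl Q (b x - b y) * refl Q (b z)) :=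
      ((refl_comm (by simp [polar_sub_left, polar_sub_right, hb, Ne.symm, b4, b5])).mul_right
        (refl_comm (by simp [polar_sub_left, hb, Ne.symm, b6]))).mul_left
        ((refl_comm (by simp [polar_sub_right, hb, Ne.symm, b4, b5])).mul_right (rc _ _))
    have c3 : Commute (refl Q (b x - b y)) (refl Q (b z)) := refl_comm (by simp [polar_sub_left, hb, b2, b3])
    have : d = w * w := Subtype.ext (by
      rw [hd, coe_mul, c2.symm.mul_mul_mul_comm, c3.symm.mul_mul_mul_comm, refl_mul_self, refl_mul_self, mul_one, mul_one,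
        ← mul_assoc, ← congrArg (refl Q) (refl_sub_apply ((hI i hi).trans (hI j hj).symm) (q1 ▸ q0)), ← conj_refl, refl_inv])
    rw [this, map_mul]
    exact hN _ (by rw [← map_mul, ← map_mul, show w * s = s * w from Subtype.ext c1.symm])
  have k7 : ∀ n, ∀ J ⊆ I, J.card = 2 * n → ∀ g : commutator (O Q), (∀ k, g.1.1 (b k) = if k ∈ J then -b k else b k) →
      QuotientGroup.mk' _ g ∈ N := fun n => by
    induction n with
    | zero => exact fun J _ hJ g h => by simp [show g = 1 from Subtype.ext (ext_basis b (by simpa [Finset.card_eq_zero.1 hJ] using h))]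
    | succ n ih =>
      intro J h1 hJ g h
      obtain ⟨i, hi, j, hj, hij⟩ := Finset.one_lt_card.1 (show 1 < J.card by omega)
      let d : commutator (O Q) := ⟨_, refl_mul_mem b hb h0 hQ h7 ((hI j (h1 hj)).trans (hI i (h1 hi)).symm)⟩
      have := ih ((J.erase i).erase j) (((Finset.erase_subset _ _).trans (Finset.erase_subset _ _)).trans h1) (by
        rw [Finset.card_erase_of_mem (by simp [hj, hij.symm]), Finset.card_erase_of_mem hi]; omega) (d * g) fun k => by
        change (refl Q (b j)).1 ((refl Q (b i)).1 (g.1.1 (b k))) = _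
        rw [h]
        by_cases a : k = i
        · simp [a, hi, hij, refl_basis b hb h0]
        by_cases a' : k = j
        · simp [a', hj, hij.symm, refl_basis b hb h0]
        · by_cases a'' : k ∈ J <;> simp [a, a', a'', refl_basis b hb h0]
      rwa [map_mul, mul_mem_cancel_left (k6 i (h1 hi) j (h1 hj) hij d rfl)] at this
  obtain ⟨n, hn⟩ := a1
  exact k7 n I subset_rfl (by omega) s hs

omit hb h0 b in
theorem star_POmega (h2 : (2 : F) ≠ 0) {ι : Type} [Fintype ι] [DecidableEq ι] (Q : QuadraticForm F (ι → F))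
    (hQ : (polarBilin Q).Nondegenerate) (h7 : 7 ≤ Fintype.card ι) : Star (Cfsg.POmega F Q) := by
  obtain ⟨a, a0, ha⟩ := exists_sqSign_eq_neg_one h2
  obtain ⟨n, hn⟩ := Nat.exists_eq_add_one_of_ne_zero (show finrank F (ι → F) ≠ 0 by simp; omega)
  obtain ⟨b, h1, h3, h4⟩ := Cfsg.Agent.S0756.result h2 _ (polarBilin_isSymm Q) hQ hn a (sqSign_eq_neg_one_iff.1 ha)
  simp only [polarBilin_apply_apply, polar_self'] at h1 h3 h4
  have h5 : ∀ {x y : F}, 2 * x = y → x = 2⁻¹ * y := fun h => by rw [← h, inv_mul_cancel_left₀ h2]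
  refine (star_basis b h1 (fun i e => ?_) h2 hQ (by simp at hn ⊢; omega) (l := Fin.last n) (c := 2⁻¹ * 1)
    (fun i hi => h5 (h3 i hi)) (h4.imp h5 fun h => ?_)).of_equiv (pOmegaEquiv Q)
  · by_cases hi : i = Fin.last n
    · subst hi; simp [e, a0.symm] at h4
    · simpa [e] using h3 i hi
  · rw [h5 h, sqSign_mul (inv_ne_zero h2) a0, ha, mul_one]
    rcases Int.units_eq_one_or (sqSign (2⁻¹ : F)) with e | e <;> simp [e]

end CL.Sq
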