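/-
A `2`-central involution whose centraliser is `2 × A` with `A` simple.
-/
import Cfsg.Agent.INV.Sq.Defs
import Cfsg.Agent.INV.CenG
import Cfsg.Agent.INV.Prod2.Tools

set_option autoImplicit false

namespace CL.Sq

open Subgroup CL.CenG CL.TwoInv

variable {G A : Type*} [Group G] [Group A] [Finite G] {t : G} {f : A →* G} (C : Cen t f) (S : Sylow 2 G)
  (h1 : t ∈ (S : Subgroup G)) (h2 : ∀ s ∈ (S : Subgroup G), s * t = t * s)
include C h2

omit C h2 in
theorem comm_le_of_index {X : Type*} [Group X] {M : Subgroup X} (hM : M.index = 2) : commutator X ≤ M := by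
  rw [_root_.commutator_def, commutator_le]
  intro a _ b _
  rw [commutatorElement_def, mul_mem_iff_of_index_two hM, mul_mem_iff_of_index_two hM, mul_mem_iff_of_index_two hM, inv_mem_iff,
    inv_mem_iff]
  tauto

theorem not_mem_of_index (hA : commutator A = ⊤) {H : Subgroup G} (hH : H.index = 2) : t ∉ H := fun ht => by
  have hf : ∀ a, f a ∈ H := fun a => comm_le_of_index hH
    (commutator_mono le_top le_top ((map_commutator ⊤ ⊤ f).le (mem_map_of_mem f (hA.ge (mem_top a)))))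
  refine S.not_dvd_index (hH.symm.dvd.trans (index_dvd_of_le fun s hs => ?_))
  obtain ⟨a, rfl | rfl⟩ := C.cover s (h2 s hs)
  exacts [hf a, mul_mem ht (hf a)]

variable (hG : ∀ H : Subgroup G, H.index ≠ 2)
include h1 hG

theorem false_of_star (h : Star A) : False := by
  obtain ⟨g, ⟨-, k, hk⟩, hg⟩ := P2.ext_transfer hG S (M := (S : Subgroup G) ⊓ f.range) (index_eq_two_iff.2 ⟨⟨t, h1⟩, fun b => by
    simp only [mem_subgroupOf, mem_inf, coe_mul, mul_mem b.2 h1, b.2, true_and]
    obtain ⟨a, e | e⟩ := C.cover b (h2 b b.2)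
    · exact .inr ⟨⟨a, e.symm⟩, fun ⟨c, hc⟩ => C.ne (a⁻¹ * c) (by rw [map_mul, map_inv, hc, e, inv_mul_cancel_left])⟩
    · exact .inl ⟨⟨a, by rw [e, mul_assoc, C.comm, ← mul_assoc, C.sq, one_mul]⟩,
        fun ⟨c, hc⟩ => C.ne (c * a⁻¹) (by rw [map_mul, map_inv, hc, e, mul_inv_cancel_right])⟩⟩) inf_le_left h1
    fun k a _ => by rw [pow_mul, sq, C.sq]; simp
  have C' := C.conj g
  rw [← hk] at C'
  have h3 : (S : Subgroup G).comap (MulAut.conj g).toMonoidHom = S :=
    S.is_maximal' (S.isPGroup'.comap_of_injective _ (MulAut.conj g).injective) fun u hu => hg u hu (h2 u hu)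
  have h4 : ∀ s ∈ (S : Subgroup G), f k * s = s * f k := fun s hs => by
    have := h2 (g⁻¹ * s * g) (h3.le (by simpa [mul_assoc] using hs))
    rw [hk]
    calc _ = g * (t * (g⁻¹ * s * g)) * g⁻¹ := by group
      _ = _ := by rw [← this]; group
  obtain ⟨m, hm⟩ := h k (C.inj (by rw [map_mul, C'.sq, map_one])) (fun D hD => by
    have l : (S : Subgroup G) ≤ centralizer {t} := fun s hs => mem_centralizer_singleton_iff.2 (h2 s hs)
    obtain ⟨Q, hQ⟩ := ((hD.map f).comap_subtype (K := centralizer {t})).exists_le_sylow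
    obtain ⟨c, hc⟩ := MulAction.exists_smul_eq (centralizer {t} : Subgroup G) Q (S.subtype l)
    obtain ⟨a, ha⟩ := C.cover c (mem_centralizer_singleton_iff.1 c.2)
    refine ⟨a⁻¹, fun d hd => C.inj ?_⟩
    have := smul_mem_pointwise_smul _ (MulAut.conj c) _
      (hQ (show ⟨f d, mem_centralizer_singleton_iff.2 (C.comm d)⟩ ∈ _ from mem_map_of_mem f hd))
    rw [← Sylow.coe_subgroup_smul, hc] at this
    have h5 := h4 (c * f d * (c : G)⁻¹) this
    rw [show c * f d * (c : G)⁻¹ = f (a * d * a⁻¹) by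
      rcases ha with e | e <;> rw [e]
      · simp
      · rw [mul_inv_rev, ← map_inv, mul_assoc t, ← map_mul, ← mul_assoc, mul_assoc t, ← map_mul, ← C.comm,
          mul_inv_cancel_right], ← map_mul, ← map_mul] at h5
    refine congrArg f ?_
    calc _ = a⁻¹ * (k * (a * d * a⁻¹)) * a := by group
      _ = _ := by rw [C.inj h5]; group) (((MulAut.conj g).toMonoidHom.comp f).range.comap f) fun y hy => by
    obtain ⟨m, -, hm⟩ := C'.sq_eq (h := f y) (by rw [← map_mul, hy, map_mul])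
    exact ⟨m * m, by rw [map_mul f, hm]⟩
  exact C'.ne m hm

variable (hA : ∀ g k : A, g * g = 1 → g ≠ 1 → k * k = 1 → k ≠ 1 → ∃ l, l * g * l⁻¹ = k)
include hA

theorem sq_eq_one_of_mem : ∀ s ∈ (S : Subgroup G), s * s = 1 := fun s hs => by
  by_contra! h
  obtain ⟨n, hn⟩ := S.isPGroup' ⟨s, hs⟩
  obtain ⟨y, h3, h4⟩ : ∃ y : A, y * y ≠ 1 ∧ y * y * (y * y) = 1 := by
    replace hn : s ^ 2 ^ n = 1 := congrArg Subtype.val hn
    induction n generalizing s with
    | zero => simp_all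
    | succ n ih =>
      by_cases e : s * s * (s * s) = 1
      · obtain ⟨a, -, ha⟩ := C.sq_eq (h2 s hs)
        exact ⟨a, fun h3 => h (by rw [ha, h3, map_one]), C.inj (by rw [map_mul, ← ha, e, map_one])⟩
      · exact ih (s * s) (mul_mem hs hs) e (by rwa [← sq, ← pow_mul, ← pow_succ'])
  refine false_of_star C S h1 h2 hG fun k hk _ => ?_
  by_cases e : k = 1
  · exact inSq_of_sq (y := 1) (by simp [e])
  obtain ⟨l, rfl⟩ := hA _ k h4 h3 hk e
  exact inSq_of_sq (y := l * y * l⁻¹) (by group)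

theorem simple_of_cen [IsSimpleGroup A] (hc : commutator A = ⊤) : IsSimpleGroup G := by
  have fi : ∀ p, p * p = 1 → p ≠ 1 → f p * f p = 1 ∧ f p ≠ 1 := fun p h1 h2 =>
    ⟨by rw [← map_mul, h1, map_one], fun h => h2 (C.inj (h.trans (map_one f).symm))⟩
  obtain ⟨p, p1, p2⟩ : ∃ p : A, p * p = 1 ∧ p ≠ 1 := by
    obtain ⟨g, k, hk⟩ := C.thompson hG S h1 h2 C.sq
    exact ⟨k, C.inj (by rw [map_mul, ← hk, map_one, A4C.conj_sq g C.sq]), fun e => C.ne_one (by simpa [e] using hk)⟩
  have f0 := fi p p1 p2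
  have big : ∀ N : Subgroup G, N.Normal → N ≠ ⊥ → ∀ h, h * t = t * h → h ∈ N := by
    intro N hN N1
    by_cases hi : ∃ t ∈ N, t * t = 1 ∧ t ≠ 1
    · obtain ⟨u, tN, tt, t1⟩ := hi
      obtain ⟨g, rfl⟩ := C.one_class hG S h1 h2 hA tt t1
      have JN : t ∈ N := hN.mem_comm_iff.mp tN |> fun h => by simpa using h
      obtain ⟨g, hg⟩ := C.one_class hG S h1 h2 hA f0.1 f0.2
      have h1 := (hN.comap f).eq_bot_or_eq_top.resolve_left fun h =>
        p2 (mem_bot.mp (h.le (mem_comap.mpr (hg ▸ hN.conj_mem t JN g))))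
      intro h hh
      obtain ⟨k, rfl | rfl⟩ := C.cover h hh
      · exact h1.ge (mem_top k)
      · exact mul_mem JN (h1.ge (mem_top k))
    push Not at hi
    have h3 := (hN.comap f).eq_bot_or_eq_top.resolve_right fun h => f0.2 (hi _ (h.ge (mem_top p)) f0.1)
    have h4 : ∀ p, p * p = 1 → p ≠ 1 → ∀ n ∈ N, f p * n * (f p)⁻¹ = n⁻¹ := fun p p1 p2 n hn => by
      refine Char.D8.inverts_of_fixedPointFree N (fi p p1 p2).1 (fun n hn h => ?_) hn
      obtain ⟨g, hg⟩ := C.one_class hG S h1 h2 hA (fi p p1 p2).1 (fi p p1 p2).2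
      have h5 := hN.conj_mem n hn g⁻¹
      obtain ⟨k, -, hk⟩ := C.sq_eq (h := g⁻¹ * n * g⁻¹⁻¹) (by
        calc _ = g⁻¹ * (n * (g * t * g⁻¹)) * g := by group
          _ = _ := by rw [hg, ← h, ← hg]; group)
      rw [show k * k = 1 from mem_bot.mp (h3.le (mem_comap.mpr (hk ▸ mul_mem h5 h5))), map_one] at hk
      exact conj_eq_one_iff.mp (hi _ h5 hk)
    have := normal_centralizer (H := N)
    refine absurd (eq_bot_iff.mpr fun n hn => hi n hn ?_) N1
    rcases (this.comap f).eq_bot_or_eq_top with h | h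
    · have h5 : p ∈ center A := mem_center_iff.2 fun a => mul_inv_eq_iff_eq_mul.1 ((eq_inv_of_mul_eq_one_left (mem_bot.1
        (h.le (mem_comap.2 fun m hm => by
          rw [map_mul f _ p, ← mul_assoc, ← mul_inv_eq_iff_eq_mul.1 (h4 _ (A4C.conj_sq a p1) (by simpa using p2) _ (inv_mem hm) |>.trans
            (inv_inv m)), ← h4 p p1 p2 m hm]
          group)))).trans (inv_eq_of_mul_eq_one_left p1))
      rcases (inferInstance : (center A).Normal).eq_bot_or_eq_top with e | e
      · exact absurd (mem_bot.1 (e.le h5)) p2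
      · exact absurd (mem_bot.1 (((commutator_eq_bot_iff_center_eq_top A).2 e).le (hc.ge (mem_top p)))) p2
    · have h5 := h4 p p1 p2 n hn
      rw [← h.ge (mem_top p) n hn, mul_inv_cancel_right] at h5
      nth_rewrite 2 [h5]
      exact mul_inv_cancel n
  haveI : Nontrivial G := ⟨t, 1, C.ne_one⟩
  refine ⟨fun N hN => or_iff_not_imp_left.mpr fun N1 => eq_top_iff.mpr fun g _ => ?_⟩
  have hb := big N hN N1
  have SN : (S : Subgroup G) ≤ N := fun s hs => hb s (h2 s hs)
  have h3 : ∀ M : Subgroup N, M.index ≠ 2 := fun M hM => by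
    have h4 := big ⁅N, N⁆ inferInstance fun h => by
      have h5 : (commutator A).map f ≤ ⁅N, N⁆ := by
        rw [_root_.commutator_def, map_commutator]
        exact commutator_mono (by rintro _ ⟨a, -, rfl⟩; exact hb _ (C.comm a)) (by rintro _ ⟨a, -, rfl⟩; exact hb _ (C.comm a))
      exact f0.2 (mem_bot.1 (h.le (h5 ⟨p, hc.ge (mem_top p), rfl⟩)))
    have h5 : (S : Subgroup G).subgroupOf N ≤ M := fun s hs => by
      obtain ⟨s', h5, h6⟩ := (map_subtype_commutator N).ge (h4 s (h2 s hs))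
      exact (Subtype.ext h6 : s' = s) ▸ comm_le_of_index hM h5
    exact S.not_dvd_index ((hM ▸ index_dvd_of_le h5).trans (relIndex_dvd_index_of_le SN))
  have C' : Cen (⟨t, SN h1⟩ : N) (f.codRestrict N fun k => hb _ (C.comm k)) :=
    ⟨fun a b h => C.inj (congrArg Subtype.val h), Subtype.ext C.sq, fun k => Subtype.ext (C.comm k),
      fun h hh => (C.cover h (congrArg Subtype.val hh)).imp fun k hk => hk.imp Subtype.ext Subtype.ext,
      fun k h => C.ne k (congrArg Subtype.val h)⟩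
  obtain ⟨n, hn⟩ := C'.one_class h3 (S.subtype SN) h1 (fun x hx => Subtype.ext (h2 x hx)) hA
    (u := ⟨g * t * g⁻¹, hN.conj_mem t (SN h1) g⟩) (Subtype.ext (A4C.conj_sq g C.sq))
    (fun h => C.ne_one (by simpa using congrArg Subtype.val h))
  have h4 : (n : G) * t * (n : G)⁻¹ = g * t * g⁻¹ := congrArg Subtype.val hn
  refine (mul_mem_cancel_left (inv_mem n.2)).mp (hb _ ?_)
  calc _ = (n : G)⁻¹ * (g * t * g⁻¹) * g := by group
    _ = _ := by rw [← h4]; group

end CL.Sq
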